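import Cfsg.Agent.Lib.PackMat

/-!
# Completeness of the row check of `Lib.PackMat` (helper2)
-/

set_option autoImplicit false

namespace Cfsg.Agent.H2.PackNe

open Cfsg.Agent.Lib.PackMat

theorem checkEqK_of_run {C : Cfg} {w₁ w₂ : List ℕ} : ∀ (cnt lo : ℕ), lo + cnt ≤ C.n →
    (∀ i, lo ≤ i → i < lo + cnt → run C w₁ (unitRow C 1 i) = run C w₂ (unitRow C 1 i)) →
    checkEqK C.s C.p C.r C.m C.t C.nf (GMc C) (FMc C) (LOc C) (HIc C) (HTc C) w₁ w₂ cnt (unitRow C 1 lo) = true := by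
  intro cnt
  induction cnt with
  | zero => intro lo _ _; rfl
  | succ cnt ih =>
    intro lo hle h
    rw [checkEqK]
    change (bif Nat.beq (run C w₁ (unitRow C 1 lo)) (run C w₂ (unitRow C 1 lo)) then _ else _) = true
    rw [h lo le_rfl (by omega), show ∀ n : ℕ, Nat.beq n n = true from fun n => Nat.beq_refl n, cond_true, force_eq]
    rcases Nat.eq_zero_or_pos cnt with h0 | h0
    · subst h0; rfl
    · rw [unitRow_shift (by omega)]
      exact ih (lo + 1) (by omega) fun i h1 h2 => h i (by omega) (by omega)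

theorem checkEq_of_prod {C : Cfg} (hC : C.good = true) (hp : 1 < C.p) {w₁ w₂ : List ℕ}
    (h1 : ∀ g ∈ w₁, okG C g = true) (h2 : ∀ g ∈ w₂, okG C g = true)
    (h : (w₁.map (mat C)).prod = (w₂.map (mat C)).prod) : checkEq C w₁ w₂ 0 C.n = true := by
  have hG := good_of_check hC
  unfold checkEq
  rw [show Nat.ble (0 + C.n) C.n = true from Nat.ble_eq_true_of_le (by omega), cond_true]
  refine checkEqK_of_run C.n 0 (by omega) fun i _ hi => ?_
  obtain ⟨h3, -⟩ := unitRow_ok hG (c := 1) hp (by omega : i < C.n)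
  obtain ⟨h4, h5⟩ := run_spec hG w₁ h1 h3
  obtain ⟨h6, h7⟩ := run_spec hG w₂ h2 h3
  exact rowVec_injOn h4 h6 (by rw [h5, h7, h])

end Cfsg.Agent.H2.PackNe
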