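import Cfsg.Agent.QTUnique.PcCard
import Cfsg.Agent.QTUnique.GenTools
import Cfsg.Agent.GH.Models.Proj
import Cfsg.Agent.H2.Eight

/-!
# `LfRow` from words in a model (helper2)

`E : List ℕ → G` multiplicative, `eqW u v` decides `E u = E v`. A Sylow 2-subgroup `T` given by a polycyclic family of
words `tw`, a normal subgroup `V` of `T` generated by words `vw` in `tw`, and words `x`, `y` normalizing `V`, with
`x ^ a`, `y ^ b`, `(x y) ^ c ∈ C(V)`.
-/

set_option autoImplicit false

namespace Cfsg.Agent.H2.WM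

open Subgroup Cfsg Cfsg.Agent.GH.Pc Cfsg.Agent.GH.Models.Proj Cfsg.Agent.QTUnique

/-- a multiplicative evaluation of words with a test for equality -/
structure Ev (G : Type*) [Group G] (eqW : List ℕ → List ℕ → Bool) where
  /-- the evaluation -/
  E : List ℕ → G
  nil : E [] = 1
  app : ∀ u v, E (u ++ v) = E u * E v
  eq_of : ∀ u v, eqW u v = true → E u = E v
  ne_of : ∀ u v, eqW u v = false → E u ≠ E v

variable {G : Type*} [Group G] {eqW : List ℕ → List ℕ → Bool} (M : Ev G eqW)

include M

theorem Ev.flatMap {n : ℕ} (tw : Fin n → List ℕ) (l : List (Fin n)) :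
    M.E (l.flatMap tw) = word (fun i => M.E (tw i)) l := by
  induction l with
  | nil => rw [List.flatMap_nil, M.nil]; rfl
  | cons i l ih => rw [List.flatMap_cons, M.app, ih, word_cons]

theorem Ev.rep (w : List ℕ) (a : ℕ) : M.E (List.replicate a w).flatten = M.E w ^ a := by
  induction a with
  | zero => rw [List.replicate_zero, List.flatten_nil, M.nil, pow_zero]
  | succ a ih => rw [List.replicate_succ, List.flatten_cons, M.app, ih, pow_succ']

/-- the check that the word `w` normalizes the subgroup generated by the words `vv` -/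
def nrmB (eqW : List ℕ → List ℕ → Bool) {m : ℕ} (vv : Fin m → List ℕ) (w : List ℕ) (t : Fin m → List (Fin m)) : Prop :=
  ∀ i, eqW (w ++ vv i) ((t i).flatMap vv ++ w) = true

/-- the check that the word `w` commutes with the words `vv` -/
def cenB (eqW : List ℕ → List ℕ → Bool) {m : ℕ} (vv : Fin m → List ℕ) (w : List ℕ) : Prop :=
  ∀ i, eqW (w ++ vv i) (vv i ++ w) = true

omit M in
instance decNrmB {m : ℕ} (vv : Fin m → List ℕ) (w : List ℕ) (t : Fin m → List (Fin m)) : Decidable (nrmB eqW vv w t) := by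
  unfold nrmB; infer_instance

omit M in
instance decCenB {m : ℕ} (vv : Fin m → List ℕ) (w : List ℕ) : Decidable (cenB eqW vv w) := by
  unfold cenB; infer_instance

theorem Ev.nrm {m : ℕ} {vv : Fin m → List ℕ} {w : List ℕ} {t : Fin m → List (Fin m)} (h : nrmB eqW vv w t) :
    M.E w ∈ normalizer ((Subgroup.closure (Set.range fun i => M.E (vv i)) : Subgroup G) : Set G) ∨ Infinite G := by
  rcases finite_or_infinite G with hG | hG
  · left
    apply GenTools.mem_normalizer_closure'
    rintro _ ⟨i, rfl⟩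
    refine ⟨M.E ((t i).flatMap vv), ?_, ?_⟩
    · rw [M.flatMap]
      exact word_mem fun i _ => subset_closure ⟨i, rfl⟩
    · show M.E w * M.E (vv i) = _
      rw [← M.app, ← M.app]
      exact M.eq_of _ _ (h i)
  · right; exact hG

theorem Ev.nrm' [Finite G] {m : ℕ} {vv : Fin m → List ℕ} {w : List ℕ} {t : Fin m → List (Fin m)}
    (h : nrmB eqW vv w t) :
    M.E w ∈ normalizer ((Subgroup.closure (Set.range fun i => M.E (vv i)) : Subgroup G) : Set G) := by
  rcases M.nrm h with h1 | h1
  · exact h1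
  · exact (not_finite G).elim

theorem Ev.cen {m : ℕ} {vv : Fin m → List ℕ} {w : List ℕ} (h : cenB eqW vv w) :
    M.E w ∈ centralizer ((Subgroup.closure (Set.range fun i => M.E (vv i)) : Subgroup G) : Set G) := by
  have h1 : Subgroup.closure (Set.range fun i => M.E (vv i)) ≤ centralizer {M.E w} := by
    rw [closure_le]
    rintro _ ⟨i, rfl⟩
    rw [SetLike.mem_coe, mem_centralizer_singleton_iff]
    show M.E (vv i) * M.E w = M.E w * M.E (vv i)
    rw [← M.app, ← M.app]
    exact (M.eq_of _ _ (h i)).symm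
  rw [mem_centralizer_iff]
  intro v hv
  exact mem_centralizer_singleton_iff.1 (h1 hv)

/-- the Sylow 2-subgroup generated by the words `tw` -/
theorem Ev.exists_T [Finite G] {n : ℕ} {P : Pres n} (hP : P.Ok) (tw : Fin n → List ℕ)
    (hsq : ∀ i, eqW (tw i ++ tw i) ((P.sq i).flatMap tw) = true)
    (hcj : ∀ i j, i < j → eqW (tw i ++ tw j) ((P.cj i j).flatMap tw ++ tw i) = true)
    (hnf : allB n (fun e => isZ e || !(eqW (((List.finRange n).filter fun i => e i).flatMap tw) [])) = true)
    (hd : ¬ 2 ^ (n + 1) ∣ Nat.card G) :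
    ∃ T : Sylow 2 G, (T : Subgroup G) = Subgroup.closure (Set.range fun i => M.E (tw i)) := by
  refine PcCard.exists_sylow_eq hP (x := fun i => M.E (tw i)) ⟨fun i => ?_, fun i j hij => ?_⟩ (fun e he => ?_) hd
  · show M.E (tw i) * M.E (tw i) = _
    rw [← M.app, ← M.flatMap]
    exact M.eq_of _ _ (hsq i)
  · show M.E (tw i) * M.E (tw j) = _ * M.E (tw i)
    rw [← M.app, ← M.flatMap, ← M.app]
    exact M.eq_of _ _ (hcj i j hij)
  · have h1 := allB_spec hnf e
    rw [Bool.or_eq_true] at h1
    rcases h1 with h1 | h1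
    · exact isZ_spec h1
    · exfalso
      unfold nf at he
      rw [← M.flatMap, ← M.nil] at he
      exact M.ne_of _ _ (by simpa using h1) he

/-- **the row from the words** -/
theorem Ev.row [Finite G] {n : ℕ} {P : Pres n} (hP : P.Ok) (tw : Fin n → List ℕ)
    (hsq : ∀ i, eqW (tw i ++ tw i) ((P.sq i).flatMap tw) = true)
    (hcj : ∀ i j, i < j → eqW (tw i ++ tw j) ((P.cj i j).flatMap tw ++ tw i) = true)
    (hnf : allB n (fun e => isZ e || !(eqW (((List.finRange n).filter fun i => e i).flatMap tw) [])) = true)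
    (hd : ¬ 2 ^ (n + 1) ∣ Nat.card G)
    {m : ℕ} (vw : Fin m → List (Fin n)) (tT : Fin n → Fin m → List (Fin m))
    (hT : ∀ k, nrmB eqW (fun i => (vw i).flatMap tw) (tw k) (tT k))
    (z : List (Fin m)) (hz : eqW (z.flatMap (fun i => (vw i).flatMap tw) ++ z.flatMap (fun i => (vw i).flatMap tw)) [] = true)
    (hzT : ∀ k, eqW (tw k ++ z.flatMap (fun i => (vw i).flatMap tw)) (z.flatMap (fun i => (vw i).flatMap tw) ++ tw k) = true)
    (x y : List ℕ) (tx ty : Fin m → List (Fin m)) (hx : nrmB eqW (fun i => (vw i).flatMap tw) x tx)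
    (hy : nrmB eqW (fun i => (vw i).flatMap tw) y ty) {a b c : ℕ}
    (hxa : cenB eqW (fun i => (vw i).flatMap tw) (List.replicate a x).flatten)
    (hyb : cenB eqW (fun i => (vw i).flatMap tw) (List.replicate b y).flatten)
    (hxy : cenB eqW (fun i => (vw i).flatMap tw) (List.replicate c (x ++ y)).flatten)
    (hab : a.Coprime b) (hac : a.Coprime c) (hbc : b.Coprime c)
    (hne : (eqW (x ++ z.flatMap (fun i => (vw i).flatMap tw)) (z.flatMap (fun i => (vw i).flatMap tw) ++ x) &&
      eqW (y ++ z.flatMap (fun i => (vw i).flatMap tw)) (z.flatMap (fun i => (vw i).flatMap tw) ++ y)) = false) :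
    LfRow G := by
  obtain ⟨T, hTT⟩ := M.exists_T hP tw hsq hcj hnf hd
  set vv : Fin m → List ℕ := fun i => (vw i).flatMap tw with hvv
  set V : Subgroup G := Subgroup.closure (Set.range fun i => M.E (vv i)) with hV
  have hzV : M.E (z.flatMap vv) ∈ V := by
    rw [M.flatMap]
    exact word_mem fun i _ => subset_closure ⟨i, rfl⟩
  refine LfRow.of_one T (LfAt.of_pair' T (V := V) ?_ ?_ (z := M.E (z.flatMap vv)) hzV ?_ ?_ (M.nrm' hx) (M.nrm' hy)
    (a := a) (b := b) (c := c) ?_ ?_ ?_ hab hac hbc ?_)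
  · rw [hV, closure_le, hTT]
    rintro _ ⟨i, rfl⟩
    rw [SetLike.mem_coe]
    show M.E ((vw i).flatMap tw) ∈ _
    rw [M.flatMap]
    exact word_mem fun i _ => subset_closure ⟨i, rfl⟩
  · rw [hTT, closure_le]
    rintro _ ⟨k, rfl⟩
    exact M.nrm' (hT k)
  · rw [← M.app, M.eq_of _ _ hz, M.nil]
  · intro t ht
    have ht' : t ∈ Subgroup.closure (Set.range fun i => M.E (tw i)) := by rw [← hTT]; exact ht
    have h1 : Subgroup.closure (Set.range fun i => M.E (tw i)) ≤ centralizer {M.E (z.flatMap vv)} := by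
      rw [closure_le]
      rintro _ ⟨k, rfl⟩
      rw [SetLike.mem_coe, mem_centralizer_singleton_iff]
      show M.E (tw k) * _ = _ * M.E (tw k)
      rw [← M.app, ← M.app]
      exact M.eq_of _ _ (hzT k)
    exact mem_centralizer_singleton_iff.1 (h1 ht')
  · rw [← M.rep]; exact M.cen hxa
  · rw [← M.rep]; exact M.cen hyb
  · rw [← M.app, ← M.rep]; exact M.cen hxy
  · rw [Bool.and_eq_false_iff] at hne
    rcases hne with h | h
    · left
      rw [← M.app, ← M.app]
      exact M.ne_of _ _ h
    · right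
      rw [← M.app, ← M.app]
      exact M.ne_of _ _ h

end Cfsg.Agent.H2.WM
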