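import Cfsg.Agent.QTUnique.He
import Cfsg.Agent.H2.Eight

/-!
# `LfRow` for `He` (helper2)

`T` normalizes an elementary abelian subgroup `A` of order `2 ^ 6`; the letters `10`, `14` normalize `A` and have the
orders 2, 3 and product of order 5.
-/

set_option autoImplicit false

namespace Cfsg.Agent.H2.He

open Subgroup Cfsg Cfsg.Agent.GH.Pc Cfsg.Agent.GH.Models.Proj Cfsg.Agent.KFacts.He.Words
open Cfsg.Agent.QTUnique Cfsg.Agent.QTUnique.He

/-- the images of the generators of `A` under the letter `10` -/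
def t10 : Fin 6 → List (Fin 6) := ![[0], [1], [2, 4], [3, 5], [4], [5]]

/-- the images of the generators of `A` under the letter `14` -/
def t14 : Fin 6 → List (Fin 6) := ![[2], [3], [0, 2], [1, 3], [1, 3, 4], [0, 1, 2, 3, 5]]

/-- the fifth power of the product -/
def w5 : List ℕ := [10, 14, 10, 14, 10, 14, 10, 14, 10, 14]

theorem chk10 : ∀ i : Fin 6, eqW [10, uA i] ((t10 i).map uA ++ [10]) = true := by decide +kernel
theorem chk14 : ∀ i : Fin 6, eqW [14, uA i] ((t14 i).map uA ++ [14]) = true := by decide +kernel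
theorem chkP : eqW [10, 10] [] = true ∧ eqW [14, 14, 14] [] = true ∧
    (∀ i : Fin 6, eqW (uA i :: w5) (w5 ++ [uA i]) = true) ∧ eqW [14, 3] [3, 14] = false ∧ eqW [3, 3] [] = true := by
  decide +kernel

theorem row_model : LfRow Spor.He := by
  obtain ⟨T, hT⟩ := exists_T
  have hxm : ∀ i, x i ∈ Subgroup.closure (Set.range x) := fun i => subset_closure ⟨i, rfl⟩
  have hV : Subgroup.closure (Set.range fun i => E [uA i]) ≤ (T : Subgroup Spor.He) := by
    rw [hT, closure_le]
    rintro _ ⟨i, rfl⟩
    obtain ⟨k, hk⟩ := uA_mem i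
    rw [SetLike.mem_coe]
    show E [uA i] ∈ _
    rw [← hk]
    exact hxm k
  refine LfRow.of_one T (LfAt.of_pair' T hV ?_ (z := E [3]) (subset_closure ⟨1, rfl⟩) ?_ ?_ (x := E [10]) (y := E [14])
    (norm_of uA _ _ chk10) (norm_of uA _ _ chk14) (a := 2) (b := 3) (c := 5) ?_ ?_ ?_ (by norm_num) (by norm_num)
    (by norm_num) (Or.inr ?_))
  · rw [hT, closure_le]
    rintro _ ⟨j, rfl⟩
    have := norm_of uA _ _ (chkA j.castSucc)
    rw [x_eq] at this
    exact this
  · rw [← E_append, ← E_nil]
    exact E_eq chkP.2.2.2.2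
  · intro t ht
    have ht' : t ∈ Subgroup.closure (Set.range x) := by rw [← hT]; exact ht
    have h1 : Subgroup.closure (Set.range x) ≤ Subgroup.centralizer ({E [3]} : Set Spor.He) := by
      rw [closure_le]
      rintro _ ⟨i, rfl⟩
      rw [SetLike.mem_coe, mem_centralizer_singleton_iff]
      show E [xl i] * E [3] = E [3] * E [xl i]
      rw [← E_append, ← E_append]
      exact E_eq (chkZ ⟨xl i, xl_lt i⟩)
    exact mem_centralizer_singleton_iff.1 (h1 ht')
  · have : E [10] ^ 2 = 1 := by
      rw [pow_two, ← E_append, ← E_nil]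
      exact E_eq chkP.1
    rw [this]; exact one_mem _
  · have : E [14] ^ 3 = 1 := by
      rw [pow_succ, pow_two, ← E_append, ← E_append, ← E_nil]
      exact E_eq chkP.2.1
    rw [this]; exact one_mem _
  · have h5 : (E [10] * E [14]) ^ 5 = E w5 := by
      simp only [pow_succ, pow_zero, one_mul, ← E_append]
      rfl
    rw [h5]
    have h6 : Subgroup.closure (Set.range fun i => E [uA i]) ≤ Subgroup.centralizer ({E w5} : Set Spor.He) := by
      rw [closure_le]
      rintro _ ⟨i, rfl⟩
      rw [SetLike.mem_coe, mem_centralizer_singleton_iff, ← E_append, ← E_append]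
      exact E_eq (chkP.2.2.1 i)
    rw [mem_centralizer_iff]
    intro v hv
    exact mem_centralizer_singleton_iff.1 (h6 hv)
  · rw [← E_append, ← E_append]
    exact E_ne chkP.2.2.2.1

/-- **`LfRow` for `He`** -/
theorem row {G : Type*} [Group G] (h : Spor.IsoHe G) : LfRow G := by
  obtain ⟨e⟩ := h
  exact row_model.congr e.symm

end Cfsg.Agent.H2.He
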