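import Cfsg.Agent.H2.LfRow

/-!
# `LfAt` from a perfect quotient (helper2)
-/

set_option autoImplicit false

namespace Cfsg.Agent.H2

open Subgroup Cfsg

variable {X : Type*} [Group X]

/-- a perfect subgroup mapping onto a perfect quotient -/
theorem exists_perfect_onto {H Q : Type*} [Group H] [Finite H] [Group Q] (hQ : Group.IsPerfect Q) (f : H →* Q)
    (hf : Function.Surjective f) : ∃ S : Subgroup H, ⁅S, S⁆ = S ∧ S.map f = ⊤ := by
  have hfin : Finite (Subgroup H) := inferInstance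
  obtain ⟨S, hS, hmin⟩ := (Set.toFinite {S : Subgroup H | S.map f = ⊤}).exists_minimal
    ⟨⊤, Subgroup.map_top_of_surjective f hf⟩
  have hS' : S.map f = ⊤ := hS
  refine ⟨S, le_antisymm (commutator_le_self S) ?_, hS⟩
  refine hmin ?_ (commutator_le_self S)
  show (⁅S, S⁆).map f = ⊤
  rw [Subgroup.map_commutator, hS']
  exact (Group.isPerfect_def).1 hQ

/-- **the criterion with a perfect quotient `H / V`** -/
theorem LfAt.of_quot [Finite X] (T : Sylow 2 X) {H V : Subgroup X} (hT : (T : Subgroup X) ≤ H)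
    (hV : V ≤ (T : Subgroup X)) (hV1 : V ≠ ⊥) (hn : H ≤ normalizer (V : Set X)) {Q : Type*} [Group Q]
    (hQ : Group.IsPerfect Q) (f : ↥H →* Q) (hf : Function.Surjective f) (hker : ∀ h : ↥H, f h = 1 → (h : X) ∈ V)
    {z : X} (hz : z ∈ (T : Subgroup X)) (hz2 : z * z = 1) (hzT : ∀ t ∈ T, t * z = z * t) {h : X} (hh : h ∈ H)
    (hne : h * z ≠ z * h) : LfAt (T : Subgroup X) := by
  obtain ⟨S, hS, hSf⟩ := exists_perfect_onto hQ f hf
  have hzo : z ∈ H7.Faithful.omZ (T : Subgroup X) :=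
    H7.Faithful.mem_omZ.2 ⟨⟨hz, mem_centralizer_iff.2 fun t ht => hzT t ht⟩, by rw [pow_two, hz2]⟩
  refine ⟨H, S.map H.subtype, hT, ?_, map_subtype_le S, ?_, ?_⟩
  · intro hb
    have h1 := QTUniq.Local.le_map_pCore (p := 2) (hV.trans hT) (T.2.to_le hV) hn
    rw [hb, Subgroup.map_bot] at h1
    exact hV1 (le_bot_iff.1 h1)
  · rw [← Subgroup.map_commutator, hS]
  · intro hc
    obtain ⟨s, hs, hse⟩ : f ⟨h, hh⟩ ∈ S.map f := by rw [hSf]; exact mem_top _
    have h1 : (s⁻¹ * ⟨h, hh⟩ : ↥H) = (s⁻¹ * ⟨h, hh⟩ : ↥H) := rfl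
    have h2 : ((s⁻¹ * ⟨h, hh⟩ : ↥H) : X) ∈ V := hker _ (by rw [map_mul, map_inv, hse, inv_mul_cancel])
    have h3 : (s : X) * z = z * s := by
      have := mem_centralizer_iff.1 (hc ⟨s, hs, rfl⟩) z hzo
      exact this.symm
    have h4 := hzT _ (hV h2)
    apply hne
    have e : h = (s : X) * ((s⁻¹ * ⟨h, hh⟩ : ↥H) : X) := by
      push_cast
      group
    rw [e, mul_assoc, h4, ← mul_assoc, h3, mul_assoc]

end Cfsg.Agent.H2
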