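import Cfsg.Agent.QTNorm.SporJ4
import Cfsg.Agent.S0365
import Cfsg.Agent.Schreier.MTwentyFour
import Cfsg.Agent.H2.Quot

/-!
# `LfRow` for `J₄` (helper2)

`E` of order `2 ^ 11`, `N(E) / E ≃ M24`.
-/

set_option autoImplicit false

namespace Cfsg.Agent.H2.JFour

open Cfsg Subgroup Cfsg.Agent.J4Type Cfsg.Agent.J4Type.NormE Cfsg.Agent.QTNorm.JFour

variable {G : Type*} [Group G]

theorem perfect_M24 : Group.IsPerfect M24 := by
  have hs : IsSimpleGroup M24 := Cfsg.Agent.S0365.result
  rw [Group.isPerfect_def]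
  rcases (inferInstance : (commutator M24).Normal).eq_bot_or_eq_top with h | h
  · exfalso
    rw [commutator_eq_bot_iff_center_eq_top, Subgroup.center_eq_top_iff] at h
    exact Cfsg.Agent.Schreier.MTwentyFour.not_isMulCommutative h
  · exact h

theorem row_of_frame [Finite G] (C : Frame G) : LfRow G := by
  obtain ⟨S, hSD, h2, hcard, hE, hQ⟩ := exists_S C
  have h3 := self C hSD hE hQ hcard
  obtain ⟨T, hT⟩ := exists_sylow_eq h2 h3
  have hz1 : C.z ≠ 1 := z_ne_one C.toCent
  have hzE : C.z ∈ C.E hex0 := C.z_mem_E _ HexStab.isHex_hex0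
  obtain ⟨h, hh, hne⟩ : ∃ h ∈ normalizer (C.E hex0 : Set G), h * C.z ≠ C.z * h := by
    by_contra hcon
    push Not at hcon
    have h4 : D C = normalizer (C.E hex0 : Set G) :=
      le_antisymm inf_le_left (le_inf le_rfl fun x hx => mem_centralizer_singleton_iff.2 (hcon x hx))
    have h5 := card_D C
    rw [h4, card_N C] at h5
    norm_num at h5
  refine LfRow.of_one T (LfAt.of_quot T (H := normalizer (C.E hex0 : Set G)) (V := C.E hex0) ?_ ?_ ?_ le_rfl perfect_M24
    C.π C.π_surj (fun h hh => (C.π_ker h).1 hh) (z := C.z) ?_ (z_sq C.toCent) ?_ hh hne)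
  · rw [hT]
    exact hSD.trans inf_le_left
  · rw [hT]; exact hE
  · intro hb
    rw [hb] at hzE
    exact hz1 (by simpa using hzE)
  · rw [hT]; exact hE hzE
  · intro t ht
    have ht' : t ∈ S := hT ▸ ht
    exact mem_centralizer_singleton_iff.1 (hSD ht').2

/-- **`LfRow` for `J₄`** -/
theorem row {G : Type*} [Group G] [Finite G] (h : Spor.IsoJ4 G) : LfRow G := by
  obtain ⟨-, -, ⟨F⟩⟩ := KFacts.J4.Base.exists_full h
  exact row_of_frame F.C.toFrame

end Cfsg.Agent.H2.JFour
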