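import Cfsg.Agent.H2.Crit
import Cfsg.Agent.H4.LfTrans

/-!
# The rows `ℒ_f(G, T) ≠ ∅` (helper2)

`LfRow X`: for every Sylow 2-subgroup `T` of `X` there is an overgroup `H` of `T` with `O_2(H) ≠ 1` and a perfect subgroup
`K` of `H` not centralizing `Ω₁(Z(T))`.

* `LfRow.nonempty`: in even characteristic, with S1820 (1), `ℒ_f(G, T) ≠ ∅`;
* `LfRow.congr`, `LfRow.of_one`: isomorphisms; one Sylow subgroup is enough;
* `perfect_of_coprime`: `⟨x, y⟩` is perfect if `x ^ a = y ^ b = (x * y) ^ c = 1` with `a, b, c` pairwise coprime;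
* `LfRow.of_pair`: `T, x, y` normalize `V ≤ T`, `x` or `y` does not centralize some `z ∈ V ∩ Z(T)`, `z² = 1`;
* `LfRow.of_gen`: the centre of `X` is trivial and `X` is generated by `T` and perfect subgroups `K i ≤ H i`,
  `T ≤ H i`, `O_2(H i) ≠ 1`.
-/

set_option autoImplicit false

open scoped commutatorElement

namespace Cfsg.Agent.H2

open Subgroup Cfsg Cfsg.Agent.Lib.Cores
open Cfsg.Agent.QTUniq.Local Cfsg.Agent.H7.Faithful

universe u v

/-- the statement for one Sylow subgroup (or any subgroup) `T` -/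
def LfAt {X : Type*} [Group X] (T : Subgroup X) : Prop :=
  ∃ H K : Subgroup X, T ≤ H ∧ pCore 2 ↥H ≠ ⊥ ∧ K ≤ H ∧ ⁅K, K⁆ = K ∧ ¬ K ≤ centralizer (omZ T : Set X)

/-- every Sylow 2-subgroup `T` has an overgroup with nontrivial 2-core and a perfect subgroup not centralizing
`Ω₁(Z(T))` -/
def LfRow (X : Type*) [Group X] : Prop := ∀ T : Sylow 2 X, LfAt (T : Subgroup X)

variable {G : Type u} [Group G] {X : Type u} [Group X] {Y : Type v} [Group Y]

/-- S1820 (1) for `G` -/
def CGen (G : Type*) [Group G] : Prop := ∀ H ∈ calH G, sSup (calC ↥H) = perfectCore ↥H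

theorem LfRow.nonempty [Finite G] (hE : IsOfEvenCharacteristic G) (hg : CGen G) (h : LfRow G) (T : Sylow 2 G) :
    (calLf (T : Subgroup G)).Nonempty := by
  obtain ⟨H, K, h1, h2, h3, h4, h5⟩ := h T
  exact Crit.nonempty_of hE T h1 h2 (hg H h2) h3 h4 h5

/-! ### transport -/

theorem map_omZ (e : X ≃* Y) (T : Subgroup X) : (omZ T).map e.toMonoidHom = omZ (T.map e.toMonoidHom) := by
  rw [omZ, omZ, H4.LfTrans.map_omegaOne, Subgroup.map_inf_eq _ _ _ e.injective, H4.LfTrans.map_centralizer]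

theorem LfAt.map [Finite X] (e : X ≃* Y) {T : Subgroup X} (h : LfAt T) : LfAt (T.map e.toMonoidHom) := by
  have : Finite Y := Finite.of_equiv X e.toEquiv
  obtain ⟨H, K, h1, h2, h3, h4, h5⟩ := h
  refine ⟨H.map e.toMonoidHom, K.map e.toMonoidHom, map_mono h1, ?_, map_mono h3, ?_, ?_⟩
  · intro hb
    apply h2
    rw [← map_equiv_pCore (H4.LfTrans.sm e H) 2] at hb
    exact (Subgroup.map_eq_bot_iff_of_injective _ (H4.LfTrans.sm e H).injective).1 hb
  · rw [← Subgroup.map_commutator, h4]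
  · rw [← map_omZ, ← H4.LfTrans.map_centralizer]
    intro hc
    exact h5 ((Subgroup.map_le_map_iff_of_injective e.injective).1 hc)

theorem LfRow.of_one [Finite X] (T₀ : Sylow 2 X) (h : LfAt (T₀ : Subgroup X)) : LfRow X := by
  intro T
  obtain ⟨g, hg⟩ := H4.LfTrans.exists_conj T₀ T
  rw [hg]
  exact h.map (MulAut.conj g)

theorem LfRow.congr [Finite X] (e : X ≃* Y) (h : LfRow X) : LfRow Y := by
  have : Finite Y := Finite.of_equiv X e.toEquiv
  obtain ⟨T⟩ : Nonempty (Sylow 2 X) := inferInstance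
  refine LfRow.of_one (H4.LfTrans.mapSylow e T) ?_
  rw [H4.LfTrans.coe_mapSylow]
  exact (h T).map e

theorem LfRow.congr' [Finite Y] (e : X ≃* Y) (h : LfRow Y) : LfRow X := h.congr e.symm

/-! ### perfect subgroups -/

/-- `⟨x, y⟩` is perfect if `x ^ a = y ^ b = (x * y) ^ c = 1` with pairwise coprime `a, b, c` -/
theorem perfect_of_coprime {x y : X} {a b c : ℕ} (hx : x ^ a = 1) (hy : y ^ b = 1) (hxy : (x * y) ^ c = 1)
    (hab : a.Coprime b) (hac : a.Coprime c) (hbc : b.Coprime c) :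
    ⁅closure {x, y}, closure {x, y}⁆ = closure ({x, y} : Set X) := by
  set K : Subgroup X := closure {x, y} with hK
  have hxK : x ∈ K := subset_closure (by simp)
  have hyK : y ∈ K := subset_closure (by simp)
  refine le_antisymm (commutator_le_self K) ?_
  -- the derived quotient
  let D : Subgroup ↥K := commutator ↥K
  let f : ↥K →* Abelianization ↥K := Abelianization.of
  have hker : ∀ z : ↥K, f z = 1 → (z : X) ∈ ⁅K, K⁆ := by
    intro z hz
    have h1 : z ∈ commutator ↥K := by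
      rw [← Abelianization.ker_of]; exact hz
    have h2 : (commutator ↥K).map K.subtype = ⁅K, K⁆ := by
      rw [commutator_def, Subgroup.map_commutator, ← MonoidHom.range_eq_map, range_subtype]
    rw [← h2]
    exact ⟨z, h1, rfl⟩
  set x' : ↥K := ⟨x, hxK⟩ with hx'
  set y' : ↥K := ⟨y, hyK⟩ with hy'
  have e1 : f x' ^ a = 1 := by
    rw [← map_pow]
    have : x' ^ a = 1 := Subtype.ext (by simpa [hx'] using hx)
    rw [this, map_one]
  have e2 : f y' ^ b = 1 := by
    rw [← map_pow]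
    have : y' ^ b = 1 := Subtype.ext (by simpa [hy'] using hy)
    rw [this, map_one]
  have e3 : (f x' * f y') ^ c = 1 := by
    rw [← map_mul, ← map_pow]
    have : (x' * y') ^ c = 1 := Subtype.ext (by simpa [hx', hy'] using hxy)
    rw [this, map_one]
  have hone : ∀ {u : Abelianization ↥K} {m n : ℕ}, u ^ m = 1 → u ^ n = 1 → m.Coprime n → u = 1 := by
    intro u m n h1 h2 h3
    rw [← orderOf_eq_one_iff]
    exact Nat.eq_one_of_dvd_coprimes h3 (orderOf_dvd_of_pow_eq_one h1) (orderOf_dvd_of_pow_eq_one h2)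
  have e4 : f x' = 1 := by
    refine hone e1 (n := b * c) ?_ (Nat.Coprime.mul_right hab hac)
    have h1 : (f x' * f y') ^ (b * c) = 1 := by rw [mul_comm b c, pow_mul, e3, one_pow]
    rw [mul_pow, pow_mul (f y'), e2, one_pow, mul_one] at h1
    exact h1
  have e5 : f y' = 1 := by
    refine hone e2 (n := c) ?_ hbc
    rw [e4, one_mul] at e3
    exact e3
  rw [hK, closure_le]
  rintro w (rfl | rfl)
  · exact hker x' e4
  · exact hker y' e5

/-- the criterion with a normal subgroup `V` of `T` and an `(a, b, c)`-pair normalizing it -/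
theorem LfAt.of_pair [Finite X] (T : Sylow 2 X) {V : Subgroup X} (hV : V ≤ (T : Subgroup X))
    (hTV : (T : Subgroup X) ≤ normalizer (V : Set X)) {z : X} (hz : z ∈ V) (hz2 : z * z = 1)
    (hzT : ∀ t ∈ T, t * z = z * t) {x y : X} (hx : x ∈ normalizer (V : Set X)) (hy : y ∈ normalizer (V : Set X))
    {a b c : ℕ} (hxa : x ^ a = 1) (hyb : y ^ b = 1) (hxy : (x * y) ^ c = 1)
    (hab : a.Coprime b) (hac : a.Coprime c) (hbc : b.Coprime c) (hne : x * z ≠ z * x ∨ y * z ≠ z * y) :
    LfAt (T : Subgroup X) := by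
  have hz1 : z ≠ 1 := by
    rintro rfl
    rcases hne with h | h <;> exact h (by rw [mul_one, one_mul])
  refine ⟨normalizer (V : Set X), closure {x, y}, hTV, ?_, ?_, perfect_of_coprime hxa hyb hxy hab hac hbc, ?_⟩
  · intro hb
    have h1 := le_map_pCore (p := 2) (le_normalizer (H := V)) (T.2.to_le hV) le_rfl
    rw [hb, Subgroup.map_bot] at h1
    exact hz1 (by simpa using h1 hz)
  · rw [closure_le]
    rintro w (rfl | rfl)
    · exact hx
    · exact hy
  · intro hc
    have hzo : z ∈ omZ (T : Subgroup X) :=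
      mem_omZ.2 ⟨⟨hV hz, mem_centralizer_iff.2 fun t ht => hzT t ht⟩, by rw [pow_two, hz2]⟩
    rcases hne with h | h
    · exact h (mem_centralizer_iff.1 (hc (subset_closure (by simp))) z hzo).symm
    · exact h (mem_centralizer_iff.1 (hc (subset_closure (by simp))) z hzo).symm

/-! ### generation -/

theorem omZ_ne_bot [Finite X] (T : Sylow 2 X) (h2 : 2 ∣ Nat.card X) : omZ (T : Subgroup X) ≠ ⊥ := by
  have hf : Fact (Nat.Prime 2) := ⟨Nat.prime_two⟩
  have hT1 : (T : Subgroup X) ≠ ⊥ := Sylow.ne_bot_of_dvd_card T h2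
  have : Nontrivial ↥(T : Subgroup X) := (nontrivial_iff_ne_bot _).2 hT1
  have hc := T.2.center_nontrivial
  have hcp : IsPGroup 2 (center ↥(T : Subgroup X)) := T.2.to_subgroup _
  obtain ⟨n, hn⟩ := IsPGroup.iff_card.1 hcp
  have hn0 : n ≠ 0 := by
    rintro rfl
    rw [pow_zero] at hn
    exact (Finite.one_lt_card_iff_nontrivial.2 hc).ne' hn
  obtain ⟨x, hx⟩ := exists_prime_orderOf_dvd_card' (G := center ↥(T : Subgroup X)) 2
    (by rw [hn]; exact dvd_pow_self 2 hn0)
  intro h
  have hxx : ((x : ↥(T : Subgroup X)) : X) ^ 2 = 1 := by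
    have h3 := pow_orderOf_eq_one x
    rw [hx] at h3
    have h4 := congrArg (fun w : center ↥(T : Subgroup X) => ((w : ↥(T : Subgroup X)) : X)) h3
    exact h4
  have hmem : ((x : ↥(T : Subgroup X)) : X) ∈ omZ (T : Subgroup X) := by
    refine mem_omZ.2 ⟨⟨(x : ↥(T : Subgroup X)).2, mem_centralizer_iff.2 fun y hy => ?_⟩, hxx⟩
    exact congrArg Subtype.val (mem_center_iff.1 x.2 ⟨y, hy⟩)
  rw [h, mem_bot] at hmem
  have h5 : x = 1 := Subtype.ext (Subtype.ext hmem)
  rw [h5, orderOf_one] at hx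
  norm_num at hx

/-- **generation**: `X` with trivial centre generated by `T` and perfect subgroups of overgroups of `T` with nontrivial
2-cores -/
theorem LfAt.of_gen [Finite X] (hZ : center X = ⊥) (h2 : 2 ∣ Nat.card X) (T : Sylow 2 X) {ι : Sort*}
    (H K : ι → Subgroup X) (hT : ∀ i, (T : Subgroup X) ≤ H i) (hH : ∀ i, pCore 2 ↥(H i) ≠ ⊥)
    (hKH : ∀ i, K i ≤ H i) (hK : ∀ i, ⁅K i, K i⁆ = K i) (hgen : (T : Subgroup X) ⊔ ⨆ i, K i = ⊤) :
    LfAt (T : Subgroup X) := by
  by_contra hcon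
  apply omZ_ne_bot T h2
  rw [eq_bot_iff, ← hZ]
  have h1 : (⊤ : Subgroup X) ≤ centralizer (omZ (T : Subgroup X) : Set X) := by
    rw [← hgen]
    refine sup_le ?_ (iSup_le fun i => ?_)
    · exact (le_centralizer_iff).2 (omZ_le_centralizer _)
    · by_contra h
      exact hcon ⟨H i, K i, hT i, hH i, hKH i, hK i, h⟩
  intro z hz
  rw [mem_center_iff]
  intro g
  exact (mem_centralizer_iff.1 (h1 (mem_top g)) z hz).symm

end Cfsg.Agent.H2
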