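import Cfsg.Agent.QTUnique.LFourThree
import Cfsg.Agent.H2.LfRow

/-!
# `LfRow` for `L₄(3)` (helper2)
-/

set_option autoImplicit false

namespace Cfsg.Agent.H2.LFourThree

open Subgroup Cfsg Matrix
open Cfsg.Agent.GH.Pc Cfsg.Agent.GH.PcTypes Cfsg.Agent.GH.Models.Proj Cfsg.Agent.GH.Models.PSL43
open Cfsg.Agent.LargeExtra.W2.LFour Cfsg.Agent.QTUnique.LFourThree

/-- an involution -/
def xx : S4 := ⟨!![1,0,1,0;0,2,0,2;1,0,2,0;0,2,0,1], by decide +kernel⟩

/-- an element of order 3 -/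
def yy : S4 := ⟨!![1,1,0,0;2,0,0,0;0,0,2,1;0,0,0,2], by decide +kernel⟩

theorem ea_xx : ∀ i : Fin 4, ∃ (l : Fin 4 → Bool) (c : ZMod 3),
    (xx * ea i).1 = c • (word ea ((List.finRange 4).filter fun i => l i) * xx).1 := by decide +kernel

theorem ea_yy : ∀ i : Fin 4, ∃ (l : Fin 4 → Bool) (c : ZMod 3),
    (yy * ea i).1 = c • (word ea ((List.finRange 4).filter fun i => l i) * yy).1 := by decide +kernel

theorem sq_xx : ∃ c : ZMod 3, (xx ^ 2).1 = c • (1 : S4).1 := by decide +kernel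
theorem cb_yy : ∃ c : ZMod 3, (yy ^ 3).1 = c • (1 : S4).1 := by decide +kernel
theorem pw_xy : ∃ c : ZMod 3, ((xx * yy) ^ 5).1 = c • (1 : S4).1 := by decide +kernel
theorem zz_sq : ∃ c : ZMod 3, (zz * zz).1 = c • (1 : S4).1 := by decide +kernel

theorem ne_z : ¬ ((∃ c : ZMod 3, (xx * zz).1 = c • (zz * xx).1) ∧ ∃ c : ZMod 3, (yy * zz).1 = c • (zz * yy).1) := by
  decide +kernel

theorem row_three : LfRow G4 := by
  obtain ⟨T, hT⟩ := exists_T
  have hV : Subgroup.closure (Set.range fun i => pr (ea i)) ≤ (T : Subgroup G4) := by rw [hT]; exact ea_le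
  have hmem : ∀ i : Fin 4, pr (a ⟨i.val + 3, by omega⟩) ∈ Subgroup.closure (Set.range fun i => pr (ea i)) :=
    fun i => subset_closure ⟨i, rfl⟩
  refine LfRow.of_one T (LfAt.of_pair T hV ?_ (z := pr zz) ?_ ?_ ?_ (x := pr xx) (y := pr yy)
    (norm_of ea xx ea_xx) (norm_of ea yy ea_yy) (a := 2) (b := 3) (c := 5) ?_ ?_ ?_ (by norm_num) (by norm_num)
    (by norm_num) ?_)
  · rw [hT, closure_le]
    rintro _ ⟨j, rfl⟩
    exact norm_of ea (a j) (ea_a j)
  · unfold zz
    rw [map_mul, map_mul, map_mul]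
    exact mul_mem (mul_mem (mul_mem (hmem 0) (hmem 1)) (hmem 2)) (hmem 3)
  · rw [← map_mul, ← map_one pr]
    exact pr_eq zz_sq
  · intro t ht
    have ht' : t ∈ Subgroup.closure (Set.range x) := by rw [← hT]; exact ht
    have h1 : Subgroup.closure (Set.range x) ≤ Subgroup.centralizer ({pr zz} : Set G4) := by
      rw [closure_le]
      rintro _ ⟨i, rfl⟩
      rw [SetLike.mem_coe, mem_centralizer_singleton_iff]
      show pr (a i) * pr zz = pr zz * pr (a i)
      rw [← map_mul, ← map_mul]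
      exact pr_eq (comm_a i)
    exact mem_centralizer_singleton_iff.1 (h1 ht')
  · rw [← map_pow, ← map_one pr]
    exact pr_eq sq_xx
  · rw [← map_pow, ← map_one pr]
    exact pr_eq cb_yy
  · rw [← map_mul, ← map_pow, ← map_one pr]
    exact pr_eq pw_xy
  · by_contra hcon
    push Not at hcon
    rw [← map_mul, ← map_mul, ← map_mul, ← map_mul] at hcon
    exact ne_z ⟨eq_smul hcon.1, eq_smul hcon.2⟩

/-- **`LfRow` for `PSL₄(F)`, `|F| = 3`** -/
theorem row {F : Type*} [Field F] [Fintype F] (hF : Fintype.card F = 3) :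
    LfRow (ProjectiveSpecialLinearGroup (Fin 4) F) := by
  obtain ⟨f⟩ := PslFacts.psl_congr F hF
  exact row_three.congr f

end Cfsg.Agent.H2.LFourThree
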