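import Cfsg.Agent.H2.LfRow

/-!
# `LfRow` goes up along subgroups of odd index (helper2)
-/

set_option autoImplicit false

namespace Cfsg.Agent.H2

open Subgroup Cfsg Cfsg.Agent.Lib.Cores
open Cfsg.Agent.QTUniq.Local Cfsg.Agent.H7.Faithful

variable {X Y : Type*} [Group X] [Group Y]

theorem LfAt.map_inj [Finite X] [Finite Y] (f : X →* Y) (hf : Function.Injective f) {T : Subgroup X} (h : LfAt T) :
    LfAt (T.map f) := by
  obtain ⟨H, K, h1, h2, h3, h4, h5⟩ := h
  refine ⟨H.map f, K.map f, map_mono h1, ?_, map_mono h3, ?_, ?_⟩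
  · intro hb
    apply h2
    rw [← map_equiv_pCore (H.equivMapOfInjective f hf) 2] at hb
    exact (Subgroup.map_eq_bot_iff_of_injective _ (H.equivMapOfInjective f hf).injective).1 hb
  · rw [← Subgroup.map_commutator, h4]
  · intro hc
    apply h5
    intro k hk
    rw [mem_centralizer_iff]
    intro z hz
    obtain ⟨⟨hz1, hz2⟩, hz3⟩ := mem_omZ.1 hz
    have hz' : f z ∈ omZ (T.map f) := by
      refine mem_omZ.2 ⟨⟨⟨z, hz1, rfl⟩, ?_⟩, by rw [← map_pow, hz3, map_one]⟩
      rw [mem_centralizer_iff]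
      rintro _ ⟨t, ht, rfl⟩
      rw [← map_mul, ← map_mul, mem_centralizer_iff.1 hz2 t ht]
    have h6 := mem_centralizer_iff.1 (hc ⟨k, hk, rfl⟩) _ hz'
    rw [← map_mul, ← map_mul] at h6
    exact hf h6

/-- **`LfRow` goes up** -/
theorem LfRow.up [Finite X] [Finite Y] (f : X →* Y) (hf : Function.Injective f) (hi : ¬ 2 ∣ f.range.index)
    (h : LfRow X) : LfRow Y := by
  have h2 : Fact (Nat.Prime 2) := ⟨Nat.prime_two⟩
  obtain ⟨T⟩ : Nonempty (Sylow 2 X) := inferInstance
  have hp : IsPGroup 2 ((T : Subgroup X).map f) := T.2.map f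
  have hidx : ¬ 2 ∣ ((T : Subgroup X).map f).index := by
    have h3 : ((T : Subgroup X).map f).index = (T : Subgroup X).index * f.range.index := by
      rw [Subgroup.index_map, (MonoidHom.ker_eq_bot_iff f).2 hf, sup_bot_eq]
    rw [h3, Nat.prime_two.dvd_mul, not_or]
    exact ⟨T.not_dvd_index, hi⟩
  exact LfRow.of_one (hp.toSylow hidx) ((h T).map_inj f hf)

/-- the version with orders -/
theorem LfRow.up_card [Finite X] [Finite Y] (f : X →* Y) (hf : Function.Injective f) {m : ℕ}
    (hm : Nat.card Y = m * Nat.card X) (ho : ¬ 2 ∣ m) (h : LfRow X) : LfRow Y := by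
  refine h.up f hf ?_
  have h1 : Nat.card f.range = Nat.card X := (Nat.card_congr (MonoidHom.ofInjective hf).toEquiv).symm
  have h3 := f.range.index_mul_card
  rw [h1, hm] at h3
  rwa [Nat.eq_of_mul_eq_mul_right Nat.card_pos h3]

end Cfsg.Agent.H2
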