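import Cfsg.Agent.H2.MTwentyTwo
import Cfsg.Agent.H2.Up

/-!
# `LfRow` for `M23` (helper2)
-/

set_option autoImplicit false

namespace Cfsg.Agent.H2.MTwentyThree

open Cfsg

theorem row_23 : LfRow Spor.M23 := by
  have hle : Spor.M22 ≤ Spor.M23 := inf_le_left
  have hc : Nat.card Spor.M23 = 23 * Nat.card Spor.M22 := by
    rw [Cfsg.Agent.SporadicA.MathieuRecog.card_M22, Cfsg.Agent.SporadicA.MathieuRecog.card_M23]
  exact MTwentyTwo.row_22.up_card (Subgroup.inclusion hle) (Subgroup.inclusion_injective hle) hc (by norm_num)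

/-- **`LfRow` for `M23`** -/
theorem row {G : Type*} [Group G] (h : Spor.IsoM23 G) : LfRow G := by
  obtain ⟨e⟩ := h
  exact row_23.congr e.symm

end Cfsg.Agent.H2.MTwentyThree
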