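import Cfsg.Agent.H2.RgdRows
import Cfsg.Agent.H1.RowPSLFive

/-!
# `LfRow` for `L₄(q)`, `L₅(q)`, `q` even (helper2)
-/

set_option autoImplicit false
set_option linter.unusedSectionVars false

namespace Cfsg.Agent.H2.RgdPSL

open Cfsg Matrix
open CoxeterSystem Cfsg.Agent.ChevalleyStructure.CoxeterGeom Cfsg.Agent.Tits.Roots Cfsg.Agent.Tits.Core
  Cfsg.Agent.Nodes.Bruhat Cfsg.Agent.Nodes.StabComb Cfsg.Agent.Nodes.BNOf
open Cfsg.Agent.H1.RgdRow Cfsg.Agent.H1.RankTwo Cfsg.Agent.H1.RowExc Cfsg.Agent.H1.RowPSL Cfsg.Agent.H1.RowPSLFive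
  Cfsg.Agent.H1.EmbSL Cfsg.Agent.H2.Rgd Cfsg.Agent.H2.RgdRows
open Cfsg.Agent.Nodes.RGDTypeA Cfsg.Agent.TitsThree.KSideA Cfsg.Agent.LieClassical.SLGen Cfsg.Agent.Nodes.RootsA
open Cfsg.Agent.LieRecognition.BNCox (cA)
open scoped commutatorElement

universe u v w

variable {F : Type w} [Field F] [Fintype F] [CharP F 2]

theorem row_psl {n : ℕ} [NeZero n] {G : Type v} [Group G] [IsSimpleGroup G] (hG : ¬ IsMulCommutative G)
    (e : G ≃* ProjectiveSpecialLinearGroup (Fin (n + 1)) F) {ι : Type} (J : ι → Finset (Fin n)) (s : ι → ℕ)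
    {m : ℕ} (hJ : ∀ k, J k ≠ Finset.univ) (hg : ∀ k, Good (J k) (s k) (m + 3))
    (hcov : ∀ i : Fin n, ∃ k, Blk (s k) (m + 3) i.castSucc ∧ Blk (s k) (m + 3) i.succ) : LfRow G := by
  have : Finite (ProjectiveSpecialLinearGroup (Fin (n + 1)) F) := Quotient.finite _
  have : Nonempty (Fin n) := ⟨0⟩
  obtain ⟨Φ, _, R, -⟩ := exists_filt (F := F) n
  refine LfRow.congr' e (lfRow_of_rgd_fam R (Nodes.RGDTypeA.G1_psl_eq_top _ _) (center_eq_bot hG e)
    (fun k => (J k : Set (Fin n))) (fun k hk => hJ k (Finset.coe_eq_univ.1 hk))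
    (fun k => ((pr n F).comp (emb (blkEmb (hg k).1))).range) (fun k => ?_) (fun k => ?_) fun i => ?_)
  · rw [MonoidHom.range_comp, range_emb, Subgroup.map_iSup]
    refine iSup_le fun p => (XX_map_le (F := F) (fun h => p.2 ((blkEmb (hg k).1).injective h))
      ((hg k).2.1 _ _ (blk_blkEmb _ _) (blk_blkEmb _ _))).trans ?_
    exact le_sup_right
  · refine perfect_range ?_ _
    rw [Group.isPerfect_def]
    exact Cfsg.Agent.LieClassical.SLGen.commutator_eq_top (by rw [Fintype.card_fin]; omega)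
  · obtain ⟨k, h1, h2⟩ := hcov i
    refine ⟨k, ?_⟩
    have h3 : (X F (-sr i)).map (pr n F) ≤ ((pr n F).comp (emb (blkEmb (hg k).1))).range := by
      rw [MonoidHom.range_comp, X_neg_sr]
      exact Subgroup.map_mono (XX_le_of_blk (hg k).1 (Fin.castSucc_lt_succ).ne' h2 h1)
    exact h3

/-- **`L₄(q)`, `q` even** -/
theorem row_psl_four {G : Type v} [Group G] [IsSimpleGroup G] (hG : ¬ IsMulCommutative G)
    (e : G ≃* ProjectiveSpecialLinearGroup (Fin 4) F) : LfRow G :=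
  row_psl (n := 3) (m := 0) hG e (ι := Fin 2) ![{0, 1}, {1, 2}] ![0, 1] (by decide) (by decide) (by decide)

/-- **`L₅(q)`, `q` even** -/
theorem row_psl_five {G : Type v} [Group G] [IsSimpleGroup G] (hG : ¬ IsMulCommutative G)
    (e : G ≃* ProjectiveSpecialLinearGroup (Fin 5) F) : LfRow G :=
  row_psl (n := 4) (m := 1) hG e (ι := Fin 2) ![{0, 1, 2}, {1, 2, 3}] ![0, 1] (by decide) (by decide) (by decide)

end Cfsg.Agent.H2.RgdPSL
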