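import Cfsg.Agent.H2.RgdRows
import Cfsg.Agent.H1.RowU

/-!
# `LfRow` for `U₄(q)`, `U₅(q)`, `q ≥ 4` even (helper2)
-/

set_option autoImplicit false
set_option linter.unusedSectionVars false

namespace Cfsg.Agent.H2.RgdU

open Cfsg
open Cfsg.Agent.ChevalleyStructure.CoxeterGeom Cfsg.Agent.Tits.Roots Cfsg.Agent.Nodes.TypeC
open Cfsg.Agent.Nodes.Comb Cfsg.Agent.Nodes.Reps Cfsg.Agent.Nodes.WittRoot Cfsg.Agent.Nodes.BNOf
open Cfsg.Agent.TitsThree Cfsg.Agent.TitsThree.Siegel Cfsg.Agent.TitsThree.WittFrame Cfsg.Agent.TitsThree.WittWeyl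
open Cfsg.Agent.TitsThree.FrameCN
open Cfsg.Agent.Nodes.WittU Cfsg.Agent.Nodes.WittInst
open Cfsg.Agent.Nodes.WittAll (AmbT nn_mem)
open Cfsg.Agent.KFacts.Mult.WittW Cfsg.Agent.KFacts.Mult.WittT
open Cfsg.Agent.KFacts.RgdBorelTits Cfsg.Agent.Nodes.RGDLib Cfsg.Agent.KFacts.RgdFilt Cfsg.Agent.KFacts.RgdFiltWitt
open Cfsg.Agent.H1.WittPerf Cfsg.Agent.H1.QsNode Cfsg.Agent.H1.RgdRow Cfsg.Agent.H1.WittRow Cfsg.Agent.H1.RowU
open Cfsg.Agent.H2.Rgd Cfsg.Agent.H2.RgdRows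
open scoped commutatorElement

universe u v w

/-- **Witt frames of index 2** -/
theorem row_witt {F : Type*} [Field F] {V : Type*} [AddCommGroup V] [Module F V] {H : HForm F V}
    {Fr : Frame H (Fin 2)} {K : Type v} [Group K] (M : Model Fr K) [Finite V] [CharP F 2] [Finite F] [Finite K]
    (hA : AmbT Fr 2 M.I) {q : Fr.Adm} (hq : q.c ≠ 0) {t : F} (ht : t ≠ 0) (ht1 : t ≠ 1) (hσ : H.σ t = t)
    (hZ : Subgroup.center K = ⊥) : LfRow K := by
  have h2p : Fact (Nat.Prime 2) := ⟨Nat.prime_two⟩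
  have hWf : Finite (CoxeterMatrix.B 2).Group := finite_W (CoxeterMatrix.B 2).toCoxeterSystem
  refine lfRow_of_rgd (Nodes.WittAll.rgdC_model M hA hq (CoxeterMatrix.B 2).toCoxeterSystem)
    (Nodes.WittModel.G1_eq_top M (by norm_num) (CoxeterMatrix.B 2).toCoxeterSystem) hZ fun i => ?_
  unfold KK
  refine le_antisymm (Subgroup.commutator_le_self _) ?_
  obtain ⟨k1, k2⟩ := self_comm M hA hq ht ht1 hσ i (D := Nodes.WittModel.X M (sr i) ⊔ Nodes.WittModel.X M (-sr i))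
    le_sup_left le_sup_right
  exact sup_le k1 k2

section U

open Cfsg.Agent.TitsThree.WBridge Cfsg.Agent.TitsThree.KSideU

variable {F : Type w} [Field F] [Fintype F] [CharP F 2] {q : ℕ} (hF : Fintype.card F = q ^ 2) (hq : 3 ≤ q)

include hF hq in
/-- **`U₄(q)`, `q ≥ 4` even** -/
theorem row_psu_four {G : Type v} [Group G] [IsSimpleGroup G] (hG : ¬ IsMulCommutative G) (e : G ≃* PSU 4 F q) :
    LfRow G := by
  obtain ⟨W, hW⟩ := exists_wframe_even hF (m := 2) (N := 4) rfl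
  obtain ⟨p0, hp0, -⟩ := exists_adm hF W
  obtain ⟨t, ht0, ht1, ht⟩ := exists_fixed hF hq
  have : Finite (PSU 4 F q) := Quotient.finite _
  exact LfRow.congr' e (row_witt (KInstU.model hF (by norm_num : 3 ≤ 4) W) (AmbT.of_amb (amb_U hF W) 2) hp0 ht0 ht1
    (by rw [HU_σ]; exact ht) (center_eq_bot hG e))

include hF hq in
/-- **`U₅(q)`, `q ≥ 4` even** -/
theorem row_psu_five {G : Type v} [Group G] [IsSimpleGroup G] (hG : ¬ IsMulCommutative G) (e : G ≃* PSU 5 F q) :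
    LfRow G := by
  obtain ⟨W, hW⟩ := exists_wframe hF (m := 2) (N := 5) (Or.inr rfl)
  obtain ⟨p0, hp0, -⟩ := exists_adm hF W
  obtain ⟨t, ht0, ht1, ht⟩ := exists_fixed hF hq
  have : Finite (PSU 5 F q) := Quotient.finite _
  exact LfRow.congr' e (row_witt (KInstU.model hF (by norm_num : 3 ≤ 5) W) (AmbT.of_amb (amb_U hF W) 2) hp0 ht0 ht1
    (by rw [HU_σ]; exact ht) (center_eq_bot hG e))

end U

end Cfsg.Agent.H2.RgdU
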