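import Cfsg.Agent.H2.SpEv
import Cfsg.Agent.LieClassical.FieldTransfer
import Cfsg.Agent.S0245
import Cfsg.Agent.S0246

/-!
# `LfRow` for `Sp₆(2)` (helper2)

`V` is elementary abelian of order 64 with normalizer `2⁶.L₃(2)`.
-/

set_option autoImplicit false
set_option maxRecDepth 100000

namespace Cfsg.Agent.H2.SpSix

open Cfsg Subgroup Cfsg.Agent.GH.Pc Cfsg.Agent.H2.WM Cfsg.Agent.H2.SpEv

/-- the tables of a polycyclic series of a Sylow 2-subgroup, `x`, `y` -/
def tabs : List ℕ := [0xbafb6caaba68db7d74cb3c70fbff7cebbe789a79648a386038f34c28b24859755449345079f75c69b658187144083040,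
  0x75c7de6da6585545d64d2450b6cbeeaeaa689649e68e2860f7cffeefae78d74df6cf2c7034c3ce2ca2481441c60c2040,
  0x79f71d6da658db7d35cf2c7038f30d2ca2489a79258e2860fbff3defae785975154d2450bafb2daeaa681871050c2040,
  0xefae78ffef7ccf2c70df6d74aeaa68beeb6c8e28609e69647de75c6da6585d65544d24503ce34c2ca2481c61440c2040,
  0xf7cffee78efad74df6c70cf2beeb6caeaa689e69648e286075c7de6586da5545d64504d23ce34c2ca2481c61440c2040,
  0xfbff3debbe39df6d74cf2c70bafb2daaba299e69648e286079f71d69b6195d65544d245038f30d28b2091c61440c2040,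
  0xe78efaf7cffec70cf2d74df6b6cbeea68aea9649e68608e26da6587de75c4d24505d65543ce34c2ca2481c61440c2040,
  0xebbe39fbff3ddb7d35cb3c31aaba29bafb2d9a79258a38216da6587de75c5d65544d24502ca2483ce34c1c61440c2040,
  0xf3dfbfe39ebbdb7d35cb3c31b6cbeea68aea9e69648e286071d79f61969b59751549341134c3ce2482ca1c61440c2040,
  0xffbf79fbaf387db75979a718bebb69baab283cb34938a308df3d71db2d305d35515925109e39619a29201c3141182100,
  0x65f71a6dd798c77d32cf5db04575124d5590e7ff3aefdfb88679228e59a024f30a2cd388a6fb2aaedba80471020c5180]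

theorem D : Dat 3 2 6 11 tabs where
  symp := by decide +kernel
  lt := by decide +kernel
  act := by decide +kernel
  base := by decide +kernel
  inj := by decide +kernel
  pos := by norm_num

def sc : List (List ℕ) := [[]]

theorem hs : Scal D sc where
  one c hc := by
    unfold sc at hc
    rw [List.mem_singleton] at hc
    rw [hc]
    exact ⟨1, by rw [one_smul]; rfl⟩
  two r hr := by
    have h1 : r = 1 := by
      revert r
      decide
    rw [h1]
    exact ⟨[], by unfold sc; simp, by rw [one_smul]; rfl⟩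

def P : Pres 9 where
  sq i := match i.val with
    | _ => []
  cj i j := match i.val, j.val with
    | 0, 1 => [1, 2]
    | 0, 4 => [4, 5, 8]
    | 0, 6 => [6, 7]
    | 1, 3 => [3, 4, 6]
    | 1, 7 => [7, 8]
    | 2, 3 => [3, 5, 7]
    | 2, 6 => [6, 8]
    | _, _ => [j]

theorem P_ok : P.Ok := by decide

def tw (i : Fin 9) : List ℕ := [i.val]

def vw : Fin 6 → List (Fin 9) := ![[3], [4], [5], [6], [7], [8]]

def tT (k : Fin 9) : Fin 6 → List (Fin 6) :=
  match k.val with
  | 0 => ![[0], [1, 2, 5], [2], [3, 4], [4], [5]]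
  | 1 => ![[0, 1, 3], [1], [2], [3], [4, 5], [5]]
  | 2 => ![[0, 2, 4], [1], [2], [3, 5], [4], [5]]
  | _ => ![[0], [1], [2], [3], [4], [5]]

def tx : Fin 6 → List (Fin 6) := ![[2], [1], [0], [5], [4], [3]]
def ty : Fin 6 → List (Fin 6) := ![[1], [0, 2, 4], [0, 1, 3], [3, 5], [3], [3, 4, 5]]

instance finite_psp : Finite (PSp 3 (ZMod 2)) := Quotient.finite _

theorem card_PSp : Nat.card (PSp 3 (ZMod 2)) = 2 ^ 9 * 2835 := by
  have h1 := Cfsg.Agent.S0245.result (F := ZMod 2) (q := 2) (ZMod.card 2) 3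
  have h2 := Cfsg.Agent.S0246.result (F := ZMod 2) (q := 2) (ZMod.card 2) 3 (by norm_num)
  have h3 := Subgroup.card_eq_card_quotient_mul_card_subgroup (Subgroup.center (Matrix.symplecticGroup (Fin 3) (ZMod 2)))
  rw [h1, h2] at h3
  simp only [Finset.prod_range_succ, Finset.prod_range_zero] at h3
  norm_num at h3
  show Nat.card (Matrix.symplecticGroup (Fin 3) (ZMod 2) ⧸ Subgroup.center _) = _
  omega

theorem not_dvd : ¬ 2 ^ (9 + 1) ∣ Nat.card (PSp 3 (ZMod 2)) := by
  rw [card_PSp]
  decide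

theorem row_psp : LfRow (PSp 3 (ZMod 2)) :=
  (ev D hs).row P_ok tw (by decide +kernel) (by decide +kernel) (by decide +kernel)
    not_dvd vw tT (by decide +kernel) [2]
    (by decide +kernel) (by decide +kernel) [9] [10] tx ty (by decide +kernel) (by decide +kernel) (a := 2) (b := 3)
    (c := 7) (by decide +kernel) (by decide +kernel) (by decide +kernel) (by norm_num) (by norm_num) (by norm_num)
    (by decide +kernel)

/-- **`LfRow` for `Sp₆(2)`** -/
theorem row {F : Type*} [Field F] [Fintype F] (hF : Fintype.card F = 2) {G : Type*} [Group G] (e : G ≃* PSp 3 F) :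
    LfRow G := by
  let f : ZMod 2 ≃+* F := ZMod.ringEquivOfPrime F Nat.prime_two hF
  exact row_psp.congr (e.trans (Cfsg.Agent.LieClassical.FieldTransfer.pspCongr 3 f.symm)).symm

end Cfsg.Agent.H2.SpSix
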