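import Cfsg.Agent.H2.Asm30
import Cfsg.Agent.H2.UniqRows
import Cfsg.Agent.H2.TwFFin
import Cfsg.Agent.H2.HS
import Cfsg.Agent.H2.He
import Cfsg.Agent.H2.Ru
import Cfsg.Agent.H2.LFourThree
import Cfsg.Agent.H2.GTwoThree
import Cfsg.Agent.H2.MTwentyTwo
import Cfsg.Agent.H2.MTwentyThree
import Cfsg.Agent.H2.MTwentyFour
import Cfsg.Agent.H2.JFour
import Cfsg.Agent.H2.ANine
import Cfsg.Agent.H2.UFourThree
import Cfsg.Agent.H2.UFourTwo
import Cfsg.Agent.H2.SpSix
import Cfsg.Agent.H2.RgdRows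
import Cfsg.Agent.H2.RgdPSL
import Cfsg.Agent.H2.RgdU
import Cfsg.Agent.LieClassical.Order72
import Cfsg.Agent.S0251
import Cfsg.Agent.S0253
import Cfsg.Agent.S0255

/-!
# Quasithin groups with `ℒ_f(G, T)` empty: assembly (helper2)
-/

set_option autoImplicit false

namespace Cfsg.Agent.H2.Asm31

open Subgroup Cfsg Cfsg.Agent.H5

universe u

/-- the conclusion of S1831 -/
def Conc31 (G : Type u) [Group G] : Prop :=
    Cfsg.Spor.IsoJ2 G ∨ Cfsg.Spor.IsoJ3 G ∨
      (∃ (K : Type) (_ : Field K) (_ : Fintype K), Fintype.card K = 8 ∧ Nonempty (G ≃* ↥(Cfsg.Lie.twistedD4 K 2))) ∨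
      Cfsg.Lie.IsoTits G ∨
      (∃ (F : Type) (_ : Field F) (_ : Fintype F), Fintype.card F = 9 ∧ Nonempty (G ≃* Cfsg.PSU 3 F 3)) ∨
      Cfsg.Spor.IsoM12 G ∨
      (∃ (F : Type) (_ : Field F) (_ : Fintype F), Fintype.card F = 2 ∧
        Nonempty (G ≃* Matrix.ProjectiveSpecialLinearGroup (Fin 3) F)) ∨
      Nonempty (G ≃* ↥(alternatingGroup (Fin 6)))

theorem charP_two {F : Type*} [Field F] [Fintype F] {n k : ℕ} (hF : Fintype.card F = (2 ^ n) ^ k) : CharP F 2 := by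
  have hf : Fact (Nat.Prime 2) := ⟨Nat.prime_two⟩
  exact charP_of_card_eq_prime_pow (f := n * k) (by rw [hF, pow_mul])

theorem not_psl_two_three {G : Type u} [Group G] [Finite G] [IsSimpleGroup G] (hG : ¬ IsMulCommutative G)
    {F : Type*} [Field F] [Fintype F] (hF : Fintype.card F = 3)
    (e : G ≃* Matrix.ProjectiveSpecialLinearGroup (Fin 2) F) : False := by
  obtain ⟨f⟩ := Cfsg.Agent.S0251.result hF
  have h2 := two_mul_nat_card_alternatingGroup (α := Fin 4)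
  rw [Nat.card_perm, Nat.card_fin] at h2
  have : (4).factorial = 24 := rfl
  have h3 : Nat.card G = 12 := by
    rw [Nat.card_congr (e.trans f).toEquiv]
    omega
  have h4 : Group.IsSolvable G := Cfsg.Agent.LieClassical.Order72.isSolvable_of_card_dvd (by rw [h3]; norm_num)
  exact hG ⟨⟨IsSimpleGroup.comm_iff_isSolvable.2 h4⟩⟩

/-- **every group on the list is in the conclusion, has `ℒ_f(G, T) ≠ ∅` or has the uniqueness property** -/
theorem trich {G : Type u} [Group G] [Finite G] [IsSimpleGroup G] (hG : ¬ IsMulCommutative G) (h2G : 2 ∣ Nat.card G)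
    (hl : IsOnQTKEList G) : Conc31 G ∨ LfRow G ∨ UniqT G := by
  rcases hl with h | h | h | h | h
  · rcases h with h | ⟨F, _, _, hF, h | ⟨h4, ⟨e⟩⟩ | ⟨h4, ⟨e⟩⟩⟩ | ⟨F, _, _, n, hn, hF, ⟨e⟩⟩ | ⟨F, _, _, hF, ⟨e⟩⟩ |
      ⟨K, _, _, n, hn, hK, h⟩ | h | h
    · exact Or.inr (Or.inr (UniqRows.bender h2G h))
    · rcases Asm30.card_eq_two_or (F := F) with h2 | h4
      · exact Or.inl (Or.inr (Or.inr (Or.inr (Or.inr (Or.inr (Or.inr (Or.inl ⟨F, _, _, h2, h⟩)))))))
      · obtain ⟨e⟩ := h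
        exact Or.inr (Or.inl (RgdRows.row_psl_three h4 hG e))
    · exact Or.inr (Or.inl (RgdRows.row_pSp h4 hG e))
    · exact Or.inr (Or.inl (RgdRows.row_gTwo h4 hG e))
    · rcases Nat.lt_or_ge n 2 with h6 | h6
      · obtain rfl : n = 1 := by omega
        exact Or.inr (Or.inl (UFourTwo.row (by rw [hF]; norm_num) e))
      · have := charP_two hF
        refine Or.inr (Or.inl (RgdU.row_psu_four hF ?_ hG e))
        calc 3 ≤ 2 ^ 2 := by norm_num
          _ ≤ 2 ^ n := Nat.pow_le_pow_right (by norm_num) h6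
    · have h16 : Fintype.card F = (2 ^ 2) ^ 2 := by rw [hF]; norm_num
      have := charP_two h16
      exact Or.inr (Or.inl (RgdU.row_psu_five (q := 4) (by rw [hF]; norm_num) (by norm_num) hG e))
    · rcases Nat.lt_or_ge n 2 with h6 | h6
      · obtain rfl : n = 1 := by omega
        exact Or.inl (Or.inr (Or.inr (Or.inl ⟨K, _, _, by rw [hK]; norm_num, h⟩)))
      · obtain ⟨e⟩ := h
        have := charP_two hK
        refine Or.inr (Or.inl (RgdRows.row_twD4 ?_ ?_ hK hG e))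
        · exact Nat.prime_two.isPrimePow.pow (by omega)
        · calc 4 = 2 ^ 2 := by norm_num
            _ ≤ 2 ^ n := Nat.pow_le_pow_right (by norm_num) h6
    · exact Or.inr (Or.inl (TwF.row h))
    · exact Or.inl (Or.inr (Or.inr (Or.inr (Or.inl h))))
  · obtain ⟨F, _, _, hF, ⟨⟨e⟩⟩ | ⟨⟨e⟩⟩ | ⟨⟨e⟩⟩⟩ := h
    · have : CharP F 2 := charP_of_card_eq_prime hF
      exact Or.inr (Or.inl (RgdPSL.row_psl_four hG e))
    · have : CharP F 2 := charP_of_card_eq_prime hF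
      exact Or.inr (Or.inl (RgdPSL.row_psl_five hG e))
    · exact Or.inr (Or.inl (SpSix.row hF e))
  · rcases h with ⟨⟨e⟩⟩ | ⟨⟨e⟩⟩ | ⟨⟨e⟩⟩ | ⟨⟨e⟩⟩
    · exact Or.inr (Or.inr (UniqRows.bender h2G (UniqRows.bender_five e)))
    · exact Or.inl (Or.inr (Or.inr (Or.inr (Or.inr (Or.inr (Or.inr (Or.inr ⟨e⟩)))))))
    · exact Or.inr (Or.inl (ANine.row_eight e))
    · exact Or.inr (Or.inl (ANine.row_nine e))
  · rcases h with ⟨F, _, _, hF, ⟨e⟩⟩ | ⟨F, _, _, hF, ⟨⟨e⟩⟩ | ⟨⟨e⟩⟩ | ⟨⟨e⟩⟩⟩ | ⟨F, _, _, hF, h | ⟨⟨e⟩⟩⟩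
    · rcases Nat.lt_or_ge 7 (Fintype.card F) with h7 | h7
      · exact Or.inr (Or.inr (UniqRows.l2 hG hF h7 e))
      · have hodd := Resid.odd_of_neighbour hF
        have h3 : Fintype.card F = 3 ∨ Fintype.card F = 5 ∨ Fintype.card F = 7 := by
          have h1 := hF.1.one_lt
          have h8 : Odd (Fintype.card F) := hodd
          obtain ⟨k, hk⟩ := h8
          omega
        rcases h3 with h3 | h3 | h3
        · exact (not_psl_two_three hG h3 e).elim
        · obtain ⟨f⟩ := Cfsg.Agent.S0253.result h3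
          exact Or.inr (Or.inr (UniqRows.bender h2G (UniqRows.bender_five (e.trans f))))
        · obtain ⟨f⟩ := Cfsg.Agent.S0255.result (K := ZMod 2) h3 (ZMod.card 2)
          exact Or.inl (Or.inr (Or.inr (Or.inr (Or.inr (Or.inr (Or.inr (Or.inl
            ⟨ZMod 2, inferInstance, inferInstance, ZMod.card 2, ⟨e.trans f⟩⟩)))))))
    · exact Or.inr (Or.inr (UniqRows.l33 hF e))
    · exact Or.inr (Or.inl ((LFourThree.row hF).congr e.symm))
    · exact Or.inr (Or.inl ((GTwoThree.row hF).congr e.symm))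
    · exact Or.inl (Or.inr (Or.inr (Or.inr (Or.inr (Or.inl ⟨F, _, _, hF, h⟩)))))
    · exact Or.inr (Or.inl (UFourThree.row hF e))
  · rcases h with h | h | h | h | h | h | h | h | h | h | h
    · exact Or.inr (Or.inr (UniqRows.m11 h))
    · exact Or.inl (Or.inr (Or.inr (Or.inr (Or.inr (Or.inr (Or.inl h))))))
    · exact Or.inr (Or.inl (MTwentyTwo.row h))
    · exact Or.inr (Or.inl (MTwentyThree.row h))
    · exact Or.inr (Or.inl (MTwentyFour.row h))
    · exact Or.inl (Or.inl h)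
    · exact Or.inl (Or.inr (Or.inl h))
    · exact Or.inr (Or.inl (JFour.row h))
    · exact Or.inr (Or.inl (HS.row h))
    · exact Or.inr (Or.inl (He.row h))
    · exact Or.inr (Or.inl (Ru.row h))

theorem two_dvd {G : Type u} [Group G] [Finite G] {X M : Subgroup G} (h : M ∈ maxTwoLocalsContaining X) :
    2 ∣ Nat.card G := by
  obtain ⟨Q, h1, h2, -⟩ := h.1.1
  have hf : Fact (Nat.Prime 2) := ⟨Nat.prime_two⟩
  obtain ⟨n, hn⟩ := IsPGroup.iff_card.1 h1
  have h3 : n ≠ 0 := by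
    rintro rfl
    exact h2 (Subgroup.eq_bot_of_card_eq Q (by simpa using hn))
  exact ((dvd_pow_self 2 h3).trans hn.symm.dvd).trans (card_subgroup_dvd_card Q)

theorem s1831 {G : Type u} [Group G] [Finite G] [IsSimpleGroup G] (hG : ¬ IsMulCommutative G)
    (hE : IsOfEvenCharacteristic G) (hgen : CGen G) (hl : IsOnQTKEList G) (T : Sylow 2 G)
    (hT : ∃ M₁ M₂ : Subgroup G, M₁ ∈ Cfsg.maxTwoLocalsContaining (T : Subgroup G) ∧
      M₂ ∈ Cfsg.maxTwoLocalsContaining (T : Subgroup G) ∧ M₁ ≠ M₂)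
    (h0 : Cfsg.calLf (T : Subgroup G) = ∅) : Conc31 G := by
  obtain ⟨M₁, M₂, h1, h2, h3⟩ := hT
  rcases trich hG (two_dvd h1) hl with h | h | h
  · exact h
  · have h4 := h.nonempty hE hgen T
    rw [h0] at h4
    exact (Set.not_nonempty_empty h4).elim
  · exact (h3 (h T M₁ h1 M₂ h2)).elim

end Cfsg.Agent.H2.Asm31
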