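import Cfsg.Agent.H2.UniqCThree
import Cfsg.Agent.MTwelveType.SylowModel
import Cfsg.Agent.SevenLow.MTwelve

/-!
# `C_G(Ω₁(Z(T)))` lies in a unique maximal 2-local subgroup: `M₁₂` (helper2)
-/

set_option autoImplicit false
open scoped Pointwise

namespace Cfsg.Agent.H2.UniqCMTwelve

open Subgroup Cfsg Cfsg.Agent.MTwelveType.SylowModel Cfsg.Agent.ClassificationK.GTwoModel
open Cfsg.Agent.SporadicStructure.M11InvPerms

universe u

/-- table of `pY` -/
def tY : List ℕ := [0, 1, 3, 12, 4, 21, 13, 7, 9, 16, 10, 11, 2, 18, 15, 20, 8, 23, 6, 5, 14, 19, 17, 22]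
/-- table of the inverse of `pY` -/
def tYi : List ℕ := [0, 1, 12, 2, 4, 19, 18, 7, 16, 8, 10, 11, 3, 6, 20, 14, 9, 22, 13, 21, 15, 5, 23, 17]
/-- certificate for `pY` -/
def cY : List ℕ := [1, 3326, 1580, 258, 3766, 2804, 1549, 1782, 2273, 2768, 1391, 3104, 1959, 4041, 3917, 2068, 3420, 3233, 1128, 1536, 466, 1702, 4032]

/-- an element of order three commuting with `A² B²` -/
def pY : Equiv.Perm GolayPt where
  toFun := tabFun tY
  invFun := tabFun tYi
  left_inv := by unfold Function.LeftInverse; decide +kernel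
  right_inv := by unfold Function.RightInverse Function.LeftInverse; decide +kernel

set_option maxRecDepth 100000 in
theorem pY_mem : pY ∈ M24 := mem_M24_of_cert pY (fun t => cY.getD t.val 0) (by decide +kernel)

theorem pY_dd : ∀ p ∈ dd, pY p ∈ dd := by decide +kernel

/-- the element of order three -/
def Y : Spor.M12 := ⟨pY, mem_M12 pY_mem pY_dd⟩

/-- the central involution -/
def Z : Spor.M12 := A ^ 2 * B ^ 2

/-- the permutation -/
def pZ : Equiv.Perm GolayPt := pA ^ 2 * pB ^ 2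

/-- the permutation of order six -/
def pW' : Equiv.Perm GolayPt := pZ * pY

theorem Y_cube : Y ^ 3 = 1 := ext_M12 (by decide +kernel)
theorem Y_Z : Y * Z = Z * Y := ext_M12 (by decide +kernel)
theorem Z_sq : Z * Z = 1 := ext_M12 (by decide +kernel)
theorem Z_ne : Z ≠ 1 := fun h => absurd (congrArg (fun g : Spor.M12 => g.1 (some 2)) h) (by decide +kernel)

theorem chk1 : ∀ q ∈ dd, pY q = q → pZ q = q → q = some 1 := by decide +kernel
theorem chk2 : ∀ q ∈ dd, pZ q = q → pY q ≠ q → ∃ k : Fin 3, (pY ^ (k : ℕ)) (some 8) = q := by decide +kernel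
theorem chk3 : ∀ k : Fin 3, (pY ^ (k : ℕ)) ((pY ^ (k : ℕ)) (some 8)) = some 8 → (pY ^ (k : ℕ)) (some 8) = some 8 := by
  decide +kernel
theorem chk4 : ∀ q ∈ dd, pZ q ≠ q → pY q ≠ q → ∃ k : Fin 6, (pW' ^ (k : ℕ)) (some 2) = q := by decide +kernel
theorem chk5 : ∀ k : Fin 6, (pW' ^ (k : ℕ)) ((pW' ^ (k : ℕ)) (some 2)) = some 2 →
    (pW' ^ (k : ℕ)) (some 2) = some 2 ∨ (pW' ^ (k : ℕ)) (some 2) = some 6 := by
  decide +kernel

/-- the elements of `M₁₂` preserve the dodecad -/
theorem mem_dd (a : Spor.M12) {p : GolayPt} (hp : p ∈ dd) : a.1 p ∈ dd := by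
  have h1 := (Subgroup.mem_inf.1 a.2).2
  rw [MulAction.mem_stabilizer_iff, squareDodecad_eq] at h1
  have h2 : a.1 • p ∈ a.1 • dd := Finset.smul_mem_smul_finset hp
  rwa [h1] at h2

theorem eq_one_of_fix (a : Spor.M12) (h : ∀ p ∈ [(some 1 : GolayPt), some 8, some 9, some 16, some 2], a.1 p = p) :
    a = 1 := by
  have h1 := SporadicStructure.DodecadStab.DFix_eq_bot dd_mem [(some 1 : GolayPt), some 8, some 9, some 16, some 2]
    (by decide) (by decide +kernel) rfl
  obtain ⟨h2, h3⟩ := Subgroup.mem_inf.1 a.2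
  rw [MulAction.mem_stabilizer_iff, squareDodecad_eq] at h3
  have h4 : a.1 ∈ SporadicStructure.DodecadStab.DFix dd [(some 1 : GolayPt), some 8, some 9, some 16, some 2] :=
    SporadicStructure.DodecadStab.mem_DFix.2 ⟨h2, h3, h⟩
  rw [h1, Subgroup.mem_bot] at h4
  exact Subtype.ext h4

theorem comm_pow {σ τ : Equiv.Perm GolayPt} (h : σ * τ = τ * σ) (k : ℕ) (p : GolayPt) :
    σ ((τ ^ k) p) = (τ ^ k) (σ p) :=
  congrArg (fun g : Equiv.Perm GolayPt => g p) ((show Commute σ τ from h).pow_right k).eq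

theorem hfix (a : Spor.M12) (haa : a * a = 1) (haz : a * Z = Z * a) (hay : a * Y = Y * a) : a = 1 ∨ a = Z := by
  have h1 : a.1 * a.1 = 1 := congrArg Subtype.val haa
  have h2 : a.1 * pZ = pZ * a.1 := congrArg Subtype.val haz
  have h3 : a.1 * pY = pY * a.1 := congrArg Subtype.val hay
  have h4 : a.1 * pW' = pW' * a.1 := by
    show a.1 * (pZ * pY) = pZ * pY * a.1
    rw [← mul_assoc, h2, mul_assoc, h3, mul_assoc]
  have e1 : ∀ p, a.1 (a.1 p) = p := fun p => congrArg (fun g : Equiv.Perm GolayPt => g p) h1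
  have e2 : ∀ p, a.1 (pZ p) = pZ (a.1 p) := fun p => congrArg (fun g : Equiv.Perm GolayPt => g p) h2
  have e3 : ∀ p, a.1 (pY p) = pY (a.1 p) := fun p => congrArg (fun g : Equiv.Perm GolayPt => g p) h3
  have z1 : pZ (some 1) = some 1 := by decide +kernel
  have z8 : pZ (some 8) = some 8 := by decide +kernel
  have z9 : pZ (some 9) = some 9 := by decide +kernel
  have z16 : pZ (some 16) = some 16 := by decide +kernel
  have z6 : pZ (some 6) = some 2 := by decide +kernel
  have y1 : pY (some 1) = some 1 := by decide +kernel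
  have y8 : pY (some 8) = some 9 := by decide +kernel
  have y9 : pY (some 9) = some 16 := by decide +kernel
  have a1 : a.1 (some 1) = some 1 := by
    refine chk1 _ (mem_dd a (by decide +kernel)) ?_ ?_
    · rw [← e3, y1]
    · rw [← e2, z1]
  have a8 : a.1 (some 8) = some 8 := by
    obtain ⟨k, hk⟩ := chk2 (a.1 (some 8)) (mem_dd a (by decide +kernel)) (by rw [← e2, z8]) (by
      rw [← e3, y8]
      intro h
      have h5 := a.1.injective h
      exact absurd h5 (by decide))
    have h5 := comm_pow h3 (k : ℕ) (some 8)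
    rw [hk, e1, ← hk] at h5
    rw [← hk]
    exact chk3 k h5.symm
  have a9 : a.1 (some 9) = some 9 := by rw [← y8, e3, a8]
  have a16 : a.1 (some 16) = some 16 := by rw [← y9, e3, a9]
  have a2 : a.1 (some 2) = some 2 ∨ a.1 (some 2) = some 6 := by
    obtain ⟨k, hk⟩ := chk4 (a.1 (some 2)) (mem_dd a (by decide +kernel)) (by
        rw [← e2]
        intro h
        have h5 := a.1.injective h
        exact absurd h5 (by decide +kernel)) (by
      rw [← e3]
      intro h
      have h5 := a.1.injective h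
      exact absurd h5 (by decide +kernel))
    have h5 := comm_pow h4 (k : ℕ) (some 2)
    rw [hk, e1, ← hk] at h5
    rw [← hk]
    exact chk5 k h5.symm
  rcases a2 with a2 | a2
  · left
    apply eq_one_of_fix
    intro p hp
    simp only [List.mem_cons, List.not_mem_nil, or_false] at hp
    rcases hp with rfl | rfl | rfl | rfl | rfl
    · exact a1
    · exact a8
    · exact a9
    · exact a16
    · exact a2
  · right
    have h5 : Z * a = 1 := by
      apply eq_one_of_fix
      intro p hp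
      show pZ (a.1 p) = p
      simp only [List.mem_cons, List.not_mem_nil, or_false] at hp
      rcases hp with rfl | rfl | rfl | rfl | rfl
      · rw [a1, z1]
      · rw [a8, z8]
      · rw [a9, z9]
      · rw [a16, z16]
      · rw [a2, z6]
    calc a = Z * (Z * a) := by rw [← mul_assoc, Z_sq, one_mul]
      _ = Z := by rw [h5, mul_one]

/-! ### the Sylow subgroup -/

/-- the central involution of the model -/
def mz : T (2 * 2) := ⟨2, 2, false, false⟩

theorem hom_mz : hom mz = Z := by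
  rw [hom_apply]
  show A ^ (2 : ZMod (2 * 2)).val * B ^ (2 : ZMod (2 * 2)).val * (1 * 1) = _
  rw [mul_one, mul_one]
  rfl

theorem mz_comm : ∀ i j : ZMod (2 * 2), ∀ e d : Bool, (⟨i, j, e, d⟩ : T (2 * 2)) * mz = mz * ⟨i, j, e, d⟩ := by
  decide +kernel

theorem mz_cent : ∀ i j : ZMod (2 * 2), ∀ e d : Bool,
    (⟨i, j, e, d⟩ : T (2 * 2)) * ⟨i, j, e, d⟩ = 1 →
    (⟨1, 0, false, false⟩ : T (2 * 2)) * ⟨i, j, e, d⟩ = ⟨i, j, e, d⟩ * ⟨1, 0, false, false⟩ →
    (⟨0, 0, true, false⟩ : T (2 * 2)) * ⟨i, j, e, d⟩ = ⟨i, j, e, d⟩ * ⟨0, 0, true, false⟩ →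
    (⟨0, 0, false, true⟩ : T (2 * 2)) * ⟨i, j, e, d⟩ = ⟨i, j, e, d⟩ * ⟨0, 0, false, true⟩ →
    (⟨i, j, e, d⟩ : T (2 * 2)) = 1 ∨ (⟨i, j, e, d⟩ : T (2 * 2)) = mz := by
  decide +kernel

theorem uniqC_model : UniqC Spor.M12 := by
  have h2p : Fact (Nat.Prime 2) := ⟨Nat.prime_two⟩
  have hf : Finite ↥Spor.M12 := Nat.finite_of_card_ne_zero (by rw [card_M12]; norm_num)
  have h1 : IsPGroup 2 hom.range := IsPGroup.of_card (n := 6) (by rw [card_range_hom]; norm_num)
  obtain ⟨T, hT⟩ := h1.exists_le_sylow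
  have h2 : hom.range = (T : Subgroup Spor.M12) := by
    apply Subgroup.eq_of_le_of_card_ge hT
    rw [card_range_hom]
    exact (card_sylow T).le
  have hmem : ∀ t ∈ (T : Subgroup Spor.M12), ∃ x, hom x = t := by
    intro t ht
    rw [← h2] at ht
    exact ht
  refine UniqC.of_three (z := Z) (y := Y) Z_sq Z_ne T ?_ ?_ ?_ Y_Z Y_cube hfix ?_
  · rw [← hom_mz]
    exact hT ⟨mz, rfl⟩
  · intro t ht
    obtain ⟨⟨i, j, e, d⟩, rfl⟩ := hmem t ht
    rw [← hom_mz, ← map_mul, ← map_mul, mz_comm]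
  · intro x hx hxx hxT
    obtain ⟨⟨i, j, e, d⟩, rfl⟩ := hmem x hx
    have key : ∀ y : Cfsg.Agent.ClassificationK.GTwoModel.T (2 * 2), y * ⟨i, j, e, d⟩ = ⟨i, j, e, d⟩ * y := by
      intro y
      apply hom_injective
      rw [map_mul, map_mul]
      exact hxT _ (hT ⟨y, rfl⟩)
    rw [← hom_mz, ← map_one hom, hom_injective.eq_iff, hom_injective.eq_iff]
    refine mz_cent i j e d ?_ (key _) (key _) (key _)
    apply hom_injective
    rw [map_mul, map_one]
    exact hxx
  · intro A hAa hAs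
    right
    refine ⟨?_, ?_⟩
    · exact Cfsg.Agent.SevenLow.MTwelve.low (G := Spor.M12) ⟨MulEquiv.refl _⟩ A
        ⟨⟨fun a b => Subtype.ext (hAa a a.2 b b.2)⟩⟩ (fun a ha => by rw [pow_two]; exact hAs a ha)
    · rw [card_M12]
      norm_num

/-- **`M₁₂`** -/
theorem uniqC {G : Type u} [Group G] [Finite G] (h : Spor.IsoM12 G) : UniqC G := by
  obtain ⟨e⟩ := h
  exact uniqC_model.congr e

end Cfsg.Agent.H2.UniqCMTwelve
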