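import Cfsg.Agent.H2.UniqC
import Cfsg.Agent.TitsK.OverK
import Cfsg.Agent.TitsK.Inst

/-!
# `C_G(Ω₁(Z(T)))` lies in a unique maximal 2-local subgroup: the Tits group (helper2)
-/

set_option autoImplicit false

namespace Cfsg.Agent.H2.UniqCTits

open Subgroup Cfsg Cfsg.Agent.TitsK Cfsg.Agent.TitsK.Abs

universe u v

section abs

variable {G : Type v} [Group G] [Finite G] (D : TData G)

theorem uniqC (O : Over D) {nb : G} (hn : nb ∈ D.T) (hz : nb * D.z * nb⁻¹ = D.z) (hV : nb * D.z1 * nb⁻¹ ∉ D.V) :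
    UniqC ↥D.T := by
  have h2f : Fact (Nat.Prime 2) := ⟨Nat.prime_two⟩
  have hS2 : IsPGroup 2 ↥(D.U.subgroupOf D.T) := D.isPGroup_U.comap_of_injective D.T.subtype D.T.subtype_injective
  have hSi : ¬ 2 ∣ (D.U.subgroupOf D.T).index := by
    have h1 := D.odd_S
    rw [inf_relIndex_right] at h1
    exact h1
  have hS : ((hS2.toSylow hSi : Sylow 2 ↥D.T) : Subgroup ↥D.T) = D.U.subgroupOf D.T := rfl
  have hzT : D.z ∈ D.T := D.V_le_T D.z_mem_V
  have hzU : D.z ∈ D.U := D.V_le_U D.z_mem_V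
  refine UniqC.of_elab (z := (⟨D.z, hzT⟩ : ↥D.T)) (Subtype.ext D.z_sq) (fun h => D.z_ne (congrArg Subtype.val h))
    (hS2.toSylow hSi) (mem_subgroupOf.2 hzU) ?_ ?_ ?_
  · intro t ht
    have h1 := D.z_central t (mem_subgroupOf.1 ht)
    exact Subtype.ext (mul_inv_eq_iff_eq_mul.1 h1)
  · intro x hx _ hxT
    have hxU : (x : G) ∈ D.U := mem_subgroupOf.1 hx
    rcases D.cent_S _ hxU (fun c hc => by
      have h4 := hxT ⟨c, hc.2⟩ (mem_subgroupOf.2 hc.1)
      exact (congrArg Subtype.val h4).symm) with h5 | h5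
    · exact Or.inl (Subtype.ext h5)
    · exact Or.inr (Subtype.ext h5)
  · intro A hAS hzA hAa _ hCA
    set R : Subgroup G := (normalizer (A : Set ↥D.T)).map D.T.subtype with hR
    have hRH : R ≤ D.H := (map_subtype_le _).trans D.T_le
    have hSR : D.U ⊓ D.T ≤ R := by
      intro x hx
      refine ⟨⟨x, hx.2⟩, hCA (mem_centralizer_singleton_iff.2 ?_), rfl⟩
      have h1 := D.z_central x hx.1
      exact Subtype.ext (mul_inv_eq_iff_eq_mul.1 h1)
    have hcomm : ∀ x ∈ R, ∀ y ∈ R, x * D.z * x⁻¹ * (y * D.z * y⁻¹) = y * D.z * y⁻¹ * (x * D.z * x⁻¹) := by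
      rintro _ ⟨x, hx, rfl⟩ _ ⟨y, hy, rfl⟩
      have h1 := (mem_normalizer_iff.1 hx _).1 hzA
      have h2 := (mem_normalizer_iff.1 hy _).1 hzA
      exact congrArg Subtype.val (hAa _ h1 _ h2)
    rcases O.ovg R hRH hSR hcomm with h1 | h1
    · intro g hg
      rw [mem_centralizer_singleton_iff]
      have h2 := h1 (g : G) ⟨g, hg, rfl⟩
      exact Subtype.ext (mul_inv_eq_iff_eq_mul.1 h2)
    · exfalso
      refine hV (h1 nb ⟨⟨nb, hn⟩, hCA (mem_centralizer_singleton_iff.2 ?_), rfl⟩ _ D.z1_mem_V)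
      exact Subtype.ext (mul_inv_eq_iff_eq_mul.1 hz)

end abs

/-- transport in abstract form -/
theorem uniqC_of_data {X : Type u} [Group X] [Finite X] {G : Type v} [Group G] [Finite G] (D : TData G) (O : Over D)
    (e : Nonempty (X ≃* ↥D.T)) {nb : G} (hn : nb ∈ D.T) (hz : nb * D.z * nb⁻¹ = D.z) (hV : nb * D.z1 * nb⁻¹ ∉ D.V) :
    UniqC X := by
  obtain ⟨e⟩ := e
  exact (uniqC D O hn hz hV).congr e

/-- **The Tits group.** -/
theorem tits {X : Type u} [Group X] [Finite X] (h : Lie.IsoTits X) : UniqC X := by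
  obtain ⟨e⟩ := h
  obtain ⟨e'⟩ := exists_equiv
  have e₀ : X ≃* ↥(tdata.T) := e.trans e'
  exact uniqC_of_data tdata overD ⟨e₀⟩ overIn.nb_mem overIn.nbz overIn.nV

end Cfsg.Agent.H2.UniqCTits
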