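import Cfsg.Agent.H2.Asm31
import Cfsg.Agent.H2.UniqCUThree
import Cfsg.Agent.H2.UniqCMTwelve
import Cfsg.Agent.H2.UniqCTwD4
import Cfsg.Agent.H2.UniqCTits

/-!
# Quasithin groups with `ℒ_f(G, T)` empty and `C_G(Ω₁(Z(T)))` in two maximal 2-local subgroups: assembly (helper2)
-/

set_option autoImplicit false

namespace Cfsg.Agent.H2.Asm32

open Subgroup Cfsg Cfsg.Agent.H5 Cfsg.Agent.H7.Faithful

universe u

/-- the conclusion of S1832 -/
def Conc32 (G : Type u) [Group G] : Prop :=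
    (∃ (F : Type) (_ : Field F) (_ : Fintype F), Fintype.card F = 2 ∧
        Nonempty (G ≃* Matrix.ProjectiveSpecialLinearGroup (Fin 3) F)) ∨
      Nonempty (G ≃* ↥(alternatingGroup (Fin 6)))

theorem s1832 {G : Type u} [Group G] [Finite G] [IsSimpleGroup G] (hG : ¬ IsMulCommutative G)
    (hE : IsOfEvenCharacteristic G) (hgen : CGen G) (hl : IsOnQTKEList G) (T : Sylow 2 G)
    (h0 : Cfsg.calLf (T : Subgroup G) = ∅)
    (hZ : ∃ M₁ M₂ : Subgroup G,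
      M₁ ∈ Cfsg.maxTwoLocalsContaining (Subgroup.centralizer ((Cfsg.omegaOne 2 ((T : Subgroup G) ⊓ Subgroup.centralizer ((T : Subgroup G) : Set G))) : Set G)) ∧
      M₂ ∈ Cfsg.maxTwoLocalsContaining (Subgroup.centralizer ((Cfsg.omegaOne 2 ((T : Subgroup G) ⊓ Subgroup.centralizer ((T : Subgroup G) : Set G))) : Set G)) ∧ M₁ ≠ M₂) :
    Conc32 G := by
  obtain ⟨M₁, M₂, h1, h2, h3⟩ := hZ
  have hTC : (T : Subgroup G) ≤ centralizer (omZ (T : Subgroup G) : Set G) := by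
    intro t ht
    rw [mem_centralizer_iff]
    intro z hz
    exact (mem_centralizer_iff.1 (omZ_le_centralizer _ hz) t ht).symm
  have hU : UniqC G → Conc32 G := fun h => (h3 (h T M₁ h1 M₂ h2)).elim
  rcases Asm31.s1831 hG hE hgen hl T ⟨M₁, M₂, ⟨h1.1, hTC.trans h1.2⟩, ⟨h2.1, hTC.trans h2.2⟩, h3⟩ h0 with
    h | h | ⟨K, _, _, hK, ⟨e⟩⟩ | h | ⟨F, _, _, hF, ⟨e⟩⟩ | h | h | h
  · exact hU (uniqC_j2 h)
  · exact hU (uniqC_j3 h)
  · exact hU (UniqCTwD4.uniqC hK e)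
  · exact hU (UniqCTits.tits h)
  · exact hU (UniqCUThree.uniqC hF e)
  · exact hU (UniqCMTwelve.uniqC h)
  · exact Or.inl h
  · exact Or.inr h

end Cfsg.Agent.H2.Asm32
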