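import Cfsg.Agent.H7.Faithful

/-!
# A criterion for `ℒ_f(G, T) ≠ ∅` (helper2)

`G` of even characteristic, `T` a Sylow 2-subgroup, `T ≤ H`, `O_2(H) ≠ 1`, and the `𝒞`-components of `H` generate `H^∞`
(S1820 (1); true in every simple QTKE-group).

* `calL_of_comp`: a `𝒞`-component of `H` is a member of `ℒ(G, T)`;
* `calLf_of_comp`: if it does not centralize `Ω₁(Z(T))`, it is a member of `ℒ_f(G, T)`;
* `nonempty_of`: if `H^∞` does not centralize `Ω₁(Z(T))`, then `ℒ_f(G, T) ≠ ∅`;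
* `le_centralizer_of_empty`: if `ℒ_f(G, T) = ∅`, every perfect subgroup of `H` centralizes `Ω₁(Z(T))`.
-/

set_option autoImplicit false

open scoped commutatorElement

namespace Cfsg.Agent.H2.Crit

open Subgroup Cfsg Cfsg.Agent.Lib.Cores
open Cfsg.Agent.QTUniq.Local Cfsg.Agent.QTUniq.CComp Cfsg.Agent.H7.Faithful

variable {G : Type*} [Group G]

/-- a perfect subgroup lies in the perfect core -/
theorem le_perfectCore {H : Type*} [Group H] {L : Subgroup H} (h : ⁅L, L⁆ = L) : L ≤ perfectCore H :=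
  le_sSup h

/-- a `𝒞`-component of `H ≥ T` is a member of `ℒ(G, T)` -/
theorem calL_of_comp [Finite G] (T : Sylow 2 G) {H : Subgroup G} (hT : (T : Subgroup G) ≤ H)
    (hH : pCore 2 ↥H ≠ ⊥) {L : Subgroup ↥H} (hL : L ∈ calC ↥H) :
    L.map H.subtype ∈ calL (T : Subgroup G) := by
  have hLH : L.map H.subtype ≤ H := map_subtype_le L
  have hLT : L.map H.subtype ⊔ (T : Subgroup G) ≤ H := sup_le hLH hT
  have e : (L.map H.subtype).subgroupOf H = L := by
    rw [Subgroup.subgroupOf, comap_map_eq_self_of_injective H.subtype_injective]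
  refine ⟨mem_calC_of_le le_sup_left hLT (by rw [e]; exact hL), ⟨T.subtype le_sup_right, rfl⟩,
    pCore_ne_bot_anti T le_sup_right hLT hH⟩

/-- `Ω₁(Z(T)) ≤ Ω₁(Z(O_2(W)))` for `T ≤ W` with `O_2(W) ≠ 1` -/
theorem omZ_le_of_over [Finite G] (hE : IsOfEvenCharacteristic G) (T : Sylow 2 G) {W : Subgroup G}
    (hT : (T : Subgroup G) ≤ W) (hW : pCore 2 ↥W ≠ ⊥) :
    omZ (T : Subgroup G) ≤ omZ ((pCore 2 ↥W).map W.subtype) := by
  have hchar := charTwo_of_over hE T hT hW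
  intro x hx
  obtain ⟨⟨h3, h4⟩, h5⟩ := mem_omZ.1 hx
  have h6 : x ∈ centralizer (((pCore 2 ↥W).map W.subtype : Subgroup G) : Set G) :=
    centralizer_le (show (((pCore 2 ↥W).map W.subtype : Subgroup G) : Set G) ⊆ (T : Subgroup G) from
      map_pCore_le_sylow T hT) h4
  refine mem_omZ.2 ⟨⟨?_, h6⟩, h5⟩
  have h7 : (⟨x, hT h3⟩ : ↥W) ∈ centralizer (pCore 2 ↥W : Set ↥W) := by
    rw [mem_centralizer_iff]
    intro y hy
    apply Subtype.ext
    exact (mem_centralizer_iff.1 h6) _ ⟨y, hy, rfl⟩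
  exact ⟨_, hchar h7, rfl⟩

/-- a member of `ℒ(G, T)` not centralizing `Ω₁(Z(T))` is in `ℒ_f(G, T)` -/
theorem calLf_of_calL [Finite G] (hE : IsOfEvenCharacteristic G) (T : Sylow 2 G) {L : Subgroup G}
    (hL : L ∈ calL (T : Subgroup G)) (h : ¬ L ≤ centralizer (omZ (T : Subgroup G) : Set G)) :
    L ∈ calLf (T : Subgroup G) := by
  refine ⟨hL, mem_calX hE T hL, fun h0 => h ?_⟩
  have hle : L ≤ L ⊔ (T : Subgroup G) := le_sup_left
  have h1 := (mem_calC_iff hle).1 hL.1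
  rw [moduleV_eq_bot_iff hle h1.2.1 h1.2.2.1, commutator_comm, commutator_eq_bot_iff_le_centralizer] at h0
  exact h0.trans (centralizer_le (omZ_le_of_over hE T le_sup_right hL.2.2))

/-- a `𝒞`-component of `H ≥ T` not centralizing `Ω₁(Z(T))` is in `ℒ_f(G, T)` -/
theorem calLf_of_comp [Finite G] (hE : IsOfEvenCharacteristic G) (T : Sylow 2 G) {H : Subgroup G}
    (hT : (T : Subgroup G) ≤ H) (hH : pCore 2 ↥H ≠ ⊥) {L : Subgroup ↥H} (hL : L ∈ calC ↥H)
    (h : ¬ L.map H.subtype ≤ centralizer (omZ (T : Subgroup G) : Set G)) :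
    L.map H.subtype ∈ calLf (T : Subgroup G) :=
  calLf_of_calL hE T (calL_of_comp T hT hH hL) h

/-- **if `ℒ_f(G, T) = ∅`, the perfect core of every overgroup `H` of `T` with `O_2(H) ≠ 1` centralizes `Ω₁(Z(T))`** -/
theorem perfectCore_le_of_empty [Finite G] (hE : IsOfEvenCharacteristic G) (T : Sylow 2 G) {H : Subgroup G}
    (hT : (T : Subgroup G) ≤ H) (hH : pCore 2 ↥H ≠ ⊥) (hgen : sSup (calC ↥H) = perfectCore ↥H)
    (h0 : calLf (T : Subgroup G) = ∅) :
    (perfectCore ↥H).map H.subtype ≤ centralizer (omZ (T : Subgroup G) : Set G) := by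
  rw [← hgen, map_le_iff_le_comap]
  refine sSup_le fun L hL => ?_
  rw [← map_le_iff_le_comap]
  by_contra h
  have h1 := calLf_of_comp hE T hT hH hL h
  rw [h0] at h1
  exact h1

/-- if `ℒ_f(G, T) = ∅`, every perfect subgroup `K` of `H ≥ T`, `O_2(H) ≠ 1`, centralizes `Ω₁(Z(T))` -/
theorem le_centralizer_of_empty [Finite G] (hE : IsOfEvenCharacteristic G) (T : Sylow 2 G) {H K : Subgroup G}
    (hT : (T : Subgroup G) ≤ H) (hH : pCore 2 ↥H ≠ ⊥) (hgen : sSup (calC ↥H) = perfectCore ↥H)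
    (h0 : calLf (T : Subgroup G) = ∅) (hKH : K ≤ H) (hK : ⁅K, K⁆ = K) :
    K ≤ centralizer (omZ (T : Subgroup G) : Set G) := by
  refine le_trans ?_ (perfectCore_le_of_empty hE T hT hH hgen h0)
  have h1 := le_perfectCore (Cfsg.Agent.QTComp.Basic.perfect_subgroupOf hK hKH)
  intro x hx
  exact ⟨⟨x, hKH hx⟩, h1 hx, rfl⟩

/-- **the criterion**: a perfect subgroup of `H ≥ T`, `O_2(H) ≠ 1`, not centralizing `Ω₁(Z(T))` -/
theorem nonempty_of [Finite G] (hE : IsOfEvenCharacteristic G) (T : Sylow 2 G) {H K : Subgroup G}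
    (hT : (T : Subgroup G) ≤ H) (hH : pCore 2 ↥H ≠ ⊥) (hgen : sSup (calC ↥H) = perfectCore ↥H)
    (hKH : K ≤ H) (hK : ⁅K, K⁆ = K) (h : ¬ K ≤ centralizer (omZ (T : Subgroup G) : Set G)) :
    (calLf (T : Subgroup G)).Nonempty := by
  rw [Set.nonempty_iff_ne_empty]
  exact fun h0 => h (le_centralizer_of_empty hE T hT hH hgen h0 hKH hK)

end Cfsg.Agent.H2.Crit
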