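import Cfsg.Agent.H293.TwRows
import Cfsg.Agent.H293.TwInner
import Cfsg.Agent.S1055

/-!
# Graph automorphisms of order two

* `fixed_coset` : `R` a root group datum for `Y`, `β` an automorphism of `Y` permuting the fundamental root subgroups
  transitively by `σ` and fixing the torus; an element of prime order `r` centralised by `β` normalises a conjugate of `B`
  fixed by `β`, if `r` does not divide `1 + |C_U(β)|`;
* `g2_three` : an outer involutory automorphism of `G₂(3)` centralises no element of order `13`.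
-/

set_option autoImplicit false
set_option linter.unusedSectionVars false

namespace Cfsg.Agent.H2.GTwoGraph

open CoxeterSystem Cfsg.Agent.ChevalleyStructure.CoxeterGeom Cfsg.Agent.Tits.Roots Cfsg.Agent.Tits.Core
  Cfsg.Agent.Tits.Exchange
  Cfsg.Agent.Tits.RootComb Cfsg.Agent.Nodes.Comb Cfsg.Agent.Nodes.Reps Cfsg.Agent.Nodes.BNOf
  Cfsg.Agent.Nodes.BNOf.RGD Cfsg.Agent.Nodes.Unique Cfsg.Agent.Nodes.Coroot Cfsg.Agent.KFacts.RgdSL
  Cfsg.Agent.KFacts.RgdDiag Cfsg.Agent.KFacts.RgdAut Cfsg.Agent.Nodes.OppDec Cfsg.Agent.Nodes.Bruhat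
  Cfsg.Agent.KFacts.RgdRigid Cfsg.Agent.KFacts.RgdChevCoord
open Cfsg.Lie Cfsg.Agent.ChevalleyStructure Cfsg.Agent.Nodes.RGDChev
open Cfsg.Agent.UGT.U2.FOne.Hexa Cfsg.Agent.H293.TwFix

section Weyl

variable {I W : Type*} [Fintype I] [DecidableEq I] [Group W] {M : CoxeterMatrix I} {cs : CoxeterSystem M W}

theorem hat_wordProd (σ : Equiv.Perm I) (hσ : ∀ i j, M (σ i) (σ j) = M i j) (ω : List I) :
    hat cs σ hσ (cs.wordProd ω) = cs.wordProd (ω.map σ) := by
  induction ω with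
  | nil => rw [List.map_nil, wordProd_nil, map_one]
  | cons i ω ih => rw [List.map_cons, wordProd_cons, wordProd_cons, map_mul, hat_simple, ih]

theorem length_hat_le (σ : Equiv.Perm I) (hσ : ∀ i j, M (σ i) (σ j) = M i j) (w : W) :
    cs.length (hat cs σ hσ w) ≤ cs.length w := by
  obtain ⟨ω, hω, rfl⟩ := cs.exists_reduced_word w
  rw [hat_wordProd]
  refine (cs.length_wordProd_le _).trans ?_
  rw [List.length_map]
  exact le_of_eq hω.symm

/-- the elements of the Weyl group fixed by a transitive symmetry of the diagram -/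
theorem eq_one_or_w0 [Finite W] (σ : Equiv.Perm I) (hσ : ∀ i j, M (σ i) (σ j) = M i j)
    (ht : ∀ i j : I, j = i ∨ j = σ i) {w : W} (hw : hat cs σ hσ w = w) : w = 1 ∨ w = w0 cs := by
  by_cases h1 : w = 1
  · exact Or.inl h1
  right
  obtain ⟨i, hi⟩ := cs.exists_leftDescent_of_ne_one h1
  have hi' : cs.length (cs.simple i * w) < cs.length w := hi
  have hall : ∀ j, cs.length (cs.simple j * w) < cs.length w := by
    intro j
    rcases ht i j with rfl | rfl
    · exact hi'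
    · have h2 : hat cs σ hσ (cs.simple i * w) = cs.simple (σ i) * w := by
        rw [map_mul, hat_simple, hw]
      have h3 := length_hat_le (cs := cs) σ hσ (cs.simple i * w)
      rw [h2] at h3
      exact lt_of_le_of_lt h3 hi'
  by_contra hne
  have hv : w * w0 cs ≠ 1 := by
    intro h2
    apply hne
    rw [← mul_one w, ← w0_mul_self cs, ← mul_assoc, h2, one_mul]
  obtain ⟨j, hj⟩ := cs.exists_leftDescent_of_ne_one hv
  have hj' : cs.length (cs.simple j * (w * w0 cs)) < cs.length (w * w0 cs) := hj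
  rw [← mul_assoc] at hj'
  have e1 := length_mul_w0 cs (cs.simple j * w)
  have e2 := length_mul_w0 cs w
  have e3 := hall j
  omega

end Weyl

section Grp

variable {I W Y : Type*} [Fintype I] [DecidableEq I] [Group W] [Finite W] [Group Y] {M : CoxeterMatrix I}
  {cs : CoxeterSystem M W} {A : I → I → ℤ} {h : IsCartan M A} {p : ℕ} {T : Subgroup Y} {n : I → Y}
  {X : (I → ℤ) → Subgroup Y}

/-- the cosets of `B` fixed by `β` -/
def FC (B : Subgroup Y) (β : MulAut Y) : Set (Y ⧸ B) := {q | ∃ x : Y, (x : Y ⧸ B) = q ∧ x⁻¹ * β x ∈ B}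

omit [Finite W] in
theorem mem_FC {B : Subgroup Y} {β : MulAut Y} (hB : Cfsg.Agent.KFacts.RgdAut.Fix β B) {x : Y} :
    (x : Y ⧸ B) ∈ FC B β ↔ x⁻¹ * β x ∈ B := by
  constructor
  · rintro ⟨y, hy, h1⟩
    rw [QuotientGroup.eq] at hy
    have e : x⁻¹ * β x = (y⁻¹ * x)⁻¹ * (y⁻¹ * β y) * β (y⁻¹ * x) := by
      rw [map_mul, map_inv]; group
    rw [e]
    exact mul_mem (mul_mem (inv_mem hy) h1) ((hB _).2 hy)
  · intro h1
    exact ⟨x, rfl, h1⟩

/-- **The fixed cosets.** -/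
theorem card_FC [Finite Y] (R : RGD cs h p T n X) (hG : GG cs h T X = ⊤) {β : MulAut Y} {σ : Equiv.Perm I}
    (hσ : ∀ i j, M (σ i) (σ j) = M i j) (ht : ∀ i j : I, j = i ∨ j = σ i)
    (hw0 : w0 cs ≠ 1)
    (hU : Cfsg.Agent.KFacts.RgdAut.Fix β (RGD.Sup X (RGD.Pos cs h)))
    (hT : Cfsg.Agent.KFacts.RgdAut.Fix β T)
    (hβ : ∀ w g, Rp cs R.nsys w g → Rp cs R.nsys (hat cs σ hσ w) (β g)) :
    Nat.card ↥(FC (RGD.B cs h T X) β) = 1 + Nat.card ↥(RGD.Sup X (RGD.Pos cs h) ⊓ fixedSubgroup β) := by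
  have hB : Cfsg.Agent.KFacts.RgdAut.Fix β (RGD.B cs h T X) := fix_B R hG hU
  obtain ⟨k, hk⟩ := exists_rp cs R.nsys (w0 cs)
  have hk' : Rp cs R.nsys (w0 cs) k⁻¹ := by
    have := hk.inv
    rwa [w0_inv] at this
  -- `w0` is fixed
  have hat_w0 : hat cs σ hσ (w0 cs) = w0 cs := by
    refine eq_w0_of_length cs ?_
    have hσ' : ∀ i j, M (σ⁻¹ i) (σ⁻¹ j) = M i j := by
      intro i j
      have := hσ (σ⁻¹ i) (σ⁻¹ j)
      rw [show σ (σ⁻¹ i) = i from σ.apply_symm_apply i, show σ (σ⁻¹ j) = j from σ.apply_symm_apply j] at this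
      exact this.symm
    have h1 : hat cs σ⁻¹ hσ' (hat cs σ hσ (w0 cs)) = w0 cs := by
      obtain ⟨ω, e⟩ := cs.wordProd_surjective (w0 cs)
      rw [← e, hat_wordProd, hat_wordProd, List.map_map]
      congr 1
      conv_rhs => rw [← List.map_id ω]
      congr 1
      funext i
      exact σ.symm_apply_apply i
    have h2 := length_hat_le (cs := cs) σ⁻¹ hσ' (hat cs σ hσ (w0 cs))
    rwa [h1] at h2
  have hkT : k⁻¹ * β k ∈ T := hk.unique (by have := hβ _ _ hk; rwa [hat_w0] at this)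
  have hkU : ∀ u ∈ RGD.Sup X (RGD.Pos cs h), k⁻¹ * u * k ∈ RGD.B cs h T X → u = 1 := by
    intro u hu h1
    refine eq_one_of_mem_U_of_mem_BN R hu ?_
    rw [← cj_B R hk]
    exact mem_cj.2 h1
  -- the map
  let f : Option ↥(RGD.Sup X (RGD.Pos cs h) ⊓ fixedSubgroup β) → ↥(FC (RGD.B cs h T X) β) := fun o =>
    match o with
    | none => ⟨((1 : Y) : Y ⧸ RGD.B cs h T X), (mem_FC hB).2 (by rw [map_one, inv_one, one_mul]; exact one_mem _)⟩
    | some u => ⟨(((u : Y) * k : Y) : Y ⧸ RGD.B cs h T X), (mem_FC hB).2 (by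
        have h1 : β (u : Y) = u := u.2.2
        rw [map_mul, h1]
        have e : ((u : Y) * k)⁻¹ * ((u : Y) * β k) = k⁻¹ * β k := by group
        rw [e]
        exact RGD.T_le_B hkT)⟩
  have hf : Function.Bijective f := by
    constructor
    · intro a b hab
      have hab' := congrArg Subtype.val hab
      rcases a with _ | a <;> rcases b with _ | b
      · rfl
      · exfalso
        have h1 : ((1 : Y) : Y ⧸ RGD.B cs h T X) = (((b : Y) * k : Y) : Y ⧸ RGD.B cs h T X) := hab'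
        rw [QuotientGroup.eq, inv_one, one_mul] at h1
        have h2 : k ∈ RGD.B cs h T X := by
          have e : k = (b : Y)⁻¹ * ((b : Y) * k) := by group
          rw [e]
          exact mul_mem (inv_mem (RGD.U_le_B b.2.1)) h1
        exact hw0 (R.eq_one_of_mem_B hk h2)
      · exfalso
        have h1 : (((a : Y) * k : Y) : Y ⧸ RGD.B cs h T X) = ((1 : Y) : Y ⧸ RGD.B cs h T X) := hab'
        rw [eq_comm, QuotientGroup.eq, inv_one, one_mul] at h1
        have h2 : k ∈ RGD.B cs h T X := by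
          have e : k = (a : Y)⁻¹ * ((a : Y) * k) := by group
          rw [e]
          exact mul_mem (inv_mem (RGD.U_le_B a.2.1)) h1
        exact hw0 (R.eq_one_of_mem_B hk h2)
      · have h1 : (((a : Y) * k : Y) : Y ⧸ RGD.B cs h T X) = (((b : Y) * k : Y) : Y ⧸ RGD.B cs h T X) := hab'
        rw [QuotientGroup.eq] at h1
        have h2 := hkU ((a : Y)⁻¹ * b) (mul_mem (inv_mem a.2.1) b.2.1) (by
          have e : k⁻¹ * ((a : Y)⁻¹ * b) * k = ((a : Y) * k)⁻¹ * ((b : Y) * k) := by group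
          rw [e]; exact h1)
        have h3 : (a : Y) = b := inv_mul_eq_one.1 h2
        rw [Subtype.ext h3]
    · rintro ⟨q, hq⟩
      obtain ⟨x, rfl⟩ := QuotientGroup.mk_surjective q
      have hx := (mem_FC hB).1 hq
      obtain ⟨w, hw⟩ := (mem_GG R).1 (show x ∈ GG cs h T X by rw [hG]; exact Subgroup.mem_top _)
      have h1 : Cell R.nsys cs h X w (β x) := by
        have := hw.mul_right hx
        rwa [mul_inv_cancel_left] at this
      have h2 : Cell R.nsys cs h X (hat cs σ hσ w) (β x) := by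
        obtain ⟨b₁, hb₁, g, hg, b₂, hb₂, rfl⟩ := hw
        exact ⟨β b₁, (hB _).2 hb₁, β g, hβ _ _ hg, β b₂, (hB _).2 hb₂, by rw [map_mul, map_mul]⟩
      rcases eq_one_or_w0 σ hσ ht (Cell.unique R h2 h1) with rfl | rfl
      · refine ⟨none, Subtype.ext ?_⟩
        show ((1 : Y) : Y ⧸ RGD.B cs h T X) = (x : Y ⧸ RGD.B cs h T X)
        rw [QuotientGroup.eq, inv_one, one_mul]
        exact hw.mem_of_one
      · obtain ⟨b₁, hb₁, g, hg, b₂, hb₂, rfl⟩ := hw
        obtain ⟨t, ht, u, hu, e⟩ := R.mem_B.1 (inv_mem hb₁)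
        have e1 : b₁ = u⁻¹ * t⁻¹ := by rw [← inv_inv b₁, e]; group
        have hgt : k⁻¹ * (t⁻¹ * g) ∈ T := by
          have h3 : Rp cs R.nsys (w0 cs) (t⁻¹ * g) := by
            have := (rp_of_mem (cs := cs) (hN := R.nsys) (inv_mem ht)).mul hg
            rwa [one_mul] at this
          exact hk.unique h3
        have hcos : ((u⁻¹ * k : Y) : Y ⧸ RGD.B cs h T X) = ((b₁ * g * b₂ : Y) : Y ⧸ RGD.B cs h T X) := by
          rw [QuotientGroup.eq, e1]
          have e2 : (u⁻¹ * k)⁻¹ * (u⁻¹ * t⁻¹ * g * b₂) = k⁻¹ * (t⁻¹ * g) * b₂ := by group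
          rw [e2]
          exact mul_mem (RGD.T_le_B hgt) hb₂
        have h3 : (u⁻¹ * k)⁻¹ * β (u⁻¹ * k) ∈ RGD.B cs h T X := by
          rw [← mem_FC hB, hcos]
          exact hq
        have h4 : u * β u⁻¹ = 1 := by
          refine hkU _ (mul_mem hu ((hU _).2 (inv_mem hu))) ?_
          have e3 : k⁻¹ * (u * β u⁻¹) * k = (u⁻¹ * k)⁻¹ * β (u⁻¹ * k) * (k⁻¹ * β k)⁻¹ := by
            rw [map_mul]; group
          rw [e3]
          exact mul_mem h3 (inv_mem (RGD.T_le_B hkT))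
        have h5 : β u⁻¹ = u⁻¹ := (inv_eq_of_mul_eq_one_right h4).symm
        refine ⟨some ⟨u⁻¹, Subgroup.mem_inf.2 ⟨inv_mem hu, h5⟩⟩, Subtype.ext hcos⟩
  rw [← Nat.card_congr (Equiv.ofBijective f hf), Finite.card_option, add_comm]

/-- an element of prime order centralised by `β` fixes a coset fixed by `β` -/
theorem fixed_coset [Finite Y] {B : Subgroup Y} {β : MulAut Y} {r : ℕ} [hr : Fact r.Prime]
    (hn : ¬ r ∣ Nat.card ↥(FC B β)) {c : Y} (hc : β c = c) (hcr : c ^ r = 1) : ∃ x : Y, x⁻¹ * c * x ∈ B := by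
  classical
  have hm : ∀ (d : Y), β d = d → ∀ q ∈ FC B β, d • q ∈ FC B β := by
    rintro d hd q ⟨x, rfl, hx⟩
    refine ⟨d * x, rfl, ?_⟩
    rw [map_mul, hd]
    have e : (d * x)⁻¹ * (d * β x) = x⁻¹ * β x := by group
    rw [e]; exact hx
  have hci : β c⁻¹ = c⁻¹ := by rw [map_inv, hc]
  let τ : Equiv.Perm ↥(FC B β) :=
    { toFun := fun q => ⟨c • q.1, hm c hc _ q.2⟩
      invFun := fun q => ⟨c⁻¹ • q.1, hm _ hci _ q.2⟩
      left_inv := fun q => Subtype.ext (inv_smul_smul c q.1)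
      right_inv := fun q => Subtype.ext (smul_inv_smul c q.1) }
  have hτ : ∀ (k : ℕ) (q : ↥(FC B β)), ((τ ^ k) q : Y ⧸ B) = c ^ k • (q : Y ⧸ B) := by
    intro k
    induction k with
    | zero => intro q; rw [pow_zero, pow_zero, one_smul, Equiv.Perm.one_apply]
    | succ k ih =>
      intro q
      rw [pow_succ, pow_succ, Equiv.Perm.mul_apply, ih, mul_smul]
      rfl
  have : Fintype ↥(FC B β) := Fintype.ofFinite _
  rw [Nat.card_eq_fintype_card] at hn
  obtain ⟨q, hq⟩ := Equiv.Perm.exists_fixed_point_of_prime (p := r) (n := 1) hn (σ := τ) (by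
    rw [pow_one]
    ext q
    rw [hτ, hcr, one_smul, Equiv.Perm.one_apply])
  obtain ⟨x, hx⟩ := QuotientGroup.mk_surjective q.1
  refine ⟨x, ?_⟩
  have h1 : c • (q : Y ⧸ B) = q := congrArg Subtype.val hq
  rw [← hx] at h1
  have h2 : ((c * x : Y) : Y ⧸ B) = (x : Y ⧸ B) := h1
  rw [eq_comm, QuotientGroup.eq] at h2
  rwa [mul_assoc]

/-- the powers of an element of `B` -/
theorem pow_mem_B (R : RGD cs h p T n X) {b : Y} (hb : b ∈ RGD.B cs h T X) {m : ℕ} (hT : ∀ t ∈ T, t ^ m = 1) :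
    b ^ m ∈ RGD.Sup X (RGD.Pos cs h) := by
  obtain ⟨t, ht, u, hu, rfl⟩ := R.mem_B.1 hb
  have key : ∀ k : ℕ, ∃ v ∈ RGD.Sup X (RGD.Pos cs h), (t * u) ^ k = t ^ k * v := by
    intro k
    induction k with
    | zero => exact ⟨1, one_mem _, by simp⟩
    | succ k ih =>
      obtain ⟨v, hv, e⟩ := ih
      refine ⟨t⁻¹ * v * t * u, mul_mem ?_ hu, by rw [pow_succ, e, pow_succ]; group⟩
      have h1 := Subgroup.mem_normalizer_iff''.1 (R.T_le_normalizer_U ht) v
      exact h1.1 hv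
  obtain ⟨v, hv, e⟩ := key m
  rw [e, hT t ht, one_mul]
  exact hv

end Grp

theorem three_pow_mod (j : ℕ) : 3 ^ j % 13 = 1 ∨ 3 ^ j % 13 = 3 ∨ 3 ^ j % 13 = 9 := by
  induction j with
  | zero => left; rfl
  | succ j ih => rw [pow_succ]; omega

theorem subsingleton_aut {K : Type*} [Field K] [Fintype K] (hK : Fintype.card K = 3) : Nat.card (K ≃+* K) = 1 := by
  have e : ZMod 3 ≃+* K := ZMod.ringEquivOfPrime K (by norm_num) hK
  have : Subsingleton (K ≃+* K) := by
    refine ⟨fun f g => ?_⟩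
    ext x
    have h1 : (f.toRingHom.comp e.toRingHom) = (g.toRingHom.comp e.toRingHom) := Subsingleton.elim _ _
    have h2 := DFunLike.congr_fun h1 (e.symm x)
    simpa using h2
  exact Nat.card_unique

/-- **`G₂(3)`** : an outer automorphism of order two centralises no element of order `13`. -/
theorem g2_three {K : Type} [Field K] [Fintype K] (hK : Fintype.card K = 3) (α : MulAut ↥(Lie.chevG2.group K))
    (hα : α * α = 1) (hout : ¬ ∃ g, α = MulAut.conj g) : ¬ 13 ∣ Nat.card ↥(Cfsg.fixedSubgroup α) := by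
  have hp : Fact (Nat.Prime 3) := ⟨by norm_num⟩
  have hp13 : Fact (Nat.Prime 13) := ⟨by norm_num⟩
  have : CharP K 3 := by
    have e : ZMod 3 ≃+* K := ZMod.ringEquivOfPrime K (by norm_num) hK
    exact charP_of_injective_ringHom e.toRingHom.injective 3
  have hKo : Odd (Fintype.card K) := by rw [hK]; decide
  have h2F : (2 : K) ≠ 0 := Cfsg.Agent.OddHalf.LongSL.two_ne_of_odd hKo
  have hsimp : IsSimpleGroup ↥(chevG2.group K) := (S1055.result ⟨-1, neg_ne_zero.2 one_ne_zero, fun h => h2F (by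
    linear_combination -h)⟩).1
  obtain ⟨cs, hcs⟩ : ∃ cs : CoxeterSystem CoxeterMatrix.G₂ CoxeterMatrix.G₂.Group, cs = cs :=
    ⟨CoxeterMatrix.G₂.toCoxeterSystem, rfl⟩
  have hT := UGT.U2.FOne.GTwo.isType
  have hW : Finite CoxeterMatrix.G₂.Group := finite_W hT cs
  have R := rgd (K := K) hT cs 3
  have hG1 : RGD.Sup (XX chevG2 2 K) {x | IsRoot cs hT.isCartan x} = ⊤ := G1_eq_top hT cs
  have hG := GG_eq_top (T := TT chevG2 K) hG1
  have hcore := core_bot R (0 : Fin 2)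
  have hP : (fun k => XX chevG2 2 K (r (1 : Fin 2) 0 k)) = Cfsg.Agent.Hexagon.G2Side.X K :=
    funext UGT.U2.FOne.GTwo.X_eq
  have hpar := Cfsg.Agent.Hexagon.G2End.hexPar (F := K)
  rw [← hP] at hpar
  obtain ⟨J, g, k, φ, σ, NF, -⟩ := Hex.main (hp.out.odd_of_ne_two (by norm_num)) R hG hcore UGT.U2.FOne.GTwo.tyG
    (Cfsg.Agent.OddHalf.LongSL.two_ne_of_odd hKo) hpar hα
  by_cases hσ : σ = 1
  · exfalso
    subst hσ
    apply hout
    refine Inner.inner_of_odd (by rw [subsingleton_aut hK]; exact odd_one) (Rows.perm_of_diag hT rfl NF.diag) hα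
      (x := g⁻¹ * k * φ g) ?_
    have e := NF.eq
    have e2 : φ * MulAut.conj g = MulAut.conj (φ g) * φ := by
      ext x
      simp [MulAut.conj_apply, map_mul, map_inv]
    calc α = (MulAut.conj g)⁻¹ * (MulAut.conj g * α * (MulAut.conj g)⁻¹) * MulAut.conj g := by group
      _ = (MulAut.conj g)⁻¹ * (MulAut.conj k * φ) * MulAut.conj g := by rw [e]
      _ = (MulAut.conj g)⁻¹ * MulAut.conj k * (φ * MulAut.conj g) := by group
      _ = (MulAut.conj g)⁻¹ * MulAut.conj k * (MulAut.conj (φ g) * φ) := by rw [e2]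
      _ = MulAut.conj (g⁻¹ * k * φ g) * φ := by rw [map_mul, map_mul, map_inv]; group
  obtain ⟨⟨hJ, hl, hs⟩, -⟩ := Hex.swap_mem UGT.U2.FOne.GTwo.tyG NF hσ
  subst hJ
  have hk : k ∈ TT chevG2 K := by
    have h1 := NF.rp
    rw [wJ_empty] at h1
    exact h1.mem_of_one
  have hM := NF.diag.matrix R
  obtain ⟨β, hβ⟩ : ∃ β, β = MulAut.conj k * φ := ⟨_, rfl⟩
  have hfT : Cfsg.Agent.KFacts.RgdAut.Fix β (TT chevG2 K) := by
    rw [hβ]
    refine Cfsg.Agent.KFacts.RgdAut.Fix.mul (fun x => ?_) NF.diag.tor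
    rw [MulAut.conj_apply]
    constructor
    · intro h1
      have := mul_mem (mul_mem (inv_mem hk) h1) hk
      have e : k⁻¹ * (k * x * k⁻¹) * k = x := by group
      rwa [e] at this
    · intro h1
      exact mul_mem (mul_mem hk h1) (inv_mem hk)
  have hfU : Cfsg.Agent.KFacts.RgdAut.Fix β (RGD.Sup (XX chevG2 2 K) (RGD.Pos cs hT.isCartan)) := by
    rw [hβ]
    refine Cfsg.Agent.KFacts.RgdAut.Fix.mul (fun x => ?_) NF.fixU
    rw [MulAut.conj_apply]
    exact (Subgroup.mem_normalizer_iff.1 (R.T_le_normalizer_U hk) x).symm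
  have hrp : ∀ w g, Rp cs R.nsys w g → Rp cs R.nsys (hat cs σ hM w) (β g) := by
    intro w g hg
    have h1 := NF.diag.rp' (R := R) hM hg
    have h2 : Rp cs R.nsys 1 k := rp_of_mem hk
    have h3 := (h2.mul h1).mul h2.inv
    rw [one_mul, inv_one, mul_one] at h3
    rw [hβ]
    exact h3
  have htr : ∀ i j : Fin 2, j = i ∨ j = σ i := by
    intro i j
    rcases UGT.U2.FOne.GTwo.tyG.all i with rfl | rfl <;> rcases UGT.U2.FOne.GTwo.tyG.all j with rfl | rfl
    · exact Or.inl rfl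
    · exact Or.inr hl.symm
    · exact Or.inr hs.symm
    · exact Or.inl rfl
  have hw0 : w0 cs ≠ 1 := by
    intro h1
    have h2 := length_le_w0 cs (cs.simple 0)
    rw [h1, cs.length_simple, cs.length_one] at h2
    omega
  intro h13
  rw [card_fix_conj NF.eq, ← hβ] at h13
  have hcard := card_FC R hG hM htr hw0 hfU hfT hrp
  have hpg : IsPGroup 3 ↥(RGD.Sup (XX chevG2 2 K) (RGD.Pos cs hT.isCartan) ⊓ Cfsg.fixedSubgroup β) :=
    R.isPGroup_Upos.to_le inf_le_left
  obtain ⟨j, hj⟩ := IsPGroup.iff_card.1 hpg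
  obtain ⟨c, hc⟩ := exists_prime_orderOf_dvd_card' 13 h13
  have hc13 : (c : ↥(Lie.chevG2.group K)) ^ 13 = 1 := by
    have := pow_orderOf_eq_one c
    rw [hc] at this
    exact congrArg Subtype.val this
  obtain ⟨x, hx⟩ := fixed_coset (B := RGD.B cs hT.isCartan (TT chevG2 K) (XX chevG2 2 K)) (β := β) (r := 13) (by
    rw [hcard, hj]
    have := three_pow_mod j
    omega) c.2 hc13
  have hT4 : ∀ t ∈ TT chevG2 K, t ^ 4 = 1 := by
    intro t ht
    have h1 : (t : Matrix.GeneralLinearGroup chevG2.Idx K) ∈ chevG2.diagonalSubgroup K := ht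
    have h2 := Subgroup.orderOf_dvd_natCard _ h1
    rw [Cfsg.Agent.H69.OutGF.card_diag_G2, Nat.card_eq_fintype_card, hK] at h2
    apply Subtype.ext
    exact orderOf_dvd_iff_pow_eq_one.1 h2
  have h4 := pow_mem_B R hx hT4
  obtain ⟨m, hm⟩ := R.isPGroup_Upos ⟨_, h4⟩
  have hm' : ((x⁻¹ * (c : ↥(Lie.chevG2.group K)) * x) ^ 4) ^ 3 ^ m = 1 := congrArg Subtype.val hm
  have h5 : (x⁻¹ * (c : ↥(Lie.chevG2.group K)) * x) ^ 13 = 1 := by
    have e : x⁻¹ * (c : ↥(Lie.chevG2.group K)) * x = MulAut.conj x⁻¹ c := by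
      rw [MulAut.conj_apply, inv_inv]
    rw [e, ← map_pow, hc13, map_one]
  rw [← pow_mul] at hm'
  have h6 : orderOf (x⁻¹ * (c : ↥(Lie.chevG2.group K)) * x) ∣ 1 := by
    have hco : Nat.Coprime (4 * 3 ^ m) 13 := Nat.Coprime.mul_left (by norm_num) (Nat.Coprime.pow_left _ (by norm_num))
    rw [← hco]
    exact Nat.dvd_gcd (orderOf_dvd_of_pow_eq_one hm') (orderOf_dvd_of_pow_eq_one h5)
  have h7 := orderOf_eq_one_iff.1 (Nat.dvd_one.1 h6)
  have h8 : (c : ↥(Lie.chevG2.group K)) = 1 := by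
    have e : (c : ↥(Lie.chevG2.group K)) = x * (x⁻¹ * c * x) * x⁻¹ := by group
    rw [e, h7]; group
  have h9 : c = 1 := Subtype.ext h8
  rw [h9, orderOf_one] at hc
  exact absurd hc (by norm_num)

end Cfsg.Agent.H2.GTwoGraph
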