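import Cfsg.Agent.SporadicStructure.M24El
import Cfsg.Agent.SporadicA.MathieuRecog
import Cfsg.Agent.H2.WM

/-!
# Word models of `M24` and `M22` (helper2)
-/

set_option autoImplicit false

namespace Cfsg.Agent.H2.GolayEv

open Cfsg Cfsg.Agent.SporadicA.GolayBase Cfsg.Agent.SporadicA.GolayPerm Cfsg.Agent.SporadicStructure.M24El
open Cfsg.Agent.H2.WM

/-- equality of packed permutations -/
def eqP (P Q : ℕ) : Bool := (List.range 24).all fun i => Nat.beq (papp P i) (papp Q i)

/-- the test for words -/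
def eqG (gl : List ℕ) (u v : List ℕ) : Bool := eqP (prodW gl u) (prodW gl v)

theorem eqP_iff {P Q : ℕ} : eqP P Q = true ↔ ∀ i, i < 24 → papp P i = papp Q i := by
  unfold eqP
  rw [List.all_eq_true]
  constructor
  · intro h i hi
    exact Nat.eq_of_beq_eq_true (h i (List.mem_range.2 hi))
  · intro h i hi
    rw [h i (List.mem_range.1 hi)]
    exact Nat.beq_refl _

theorem el_eq_iff {P Q : ℕ} (hP : ok P = true) (hQ : ok Q = true) : el P = el Q ↔ eqP P Q = true := by
  rw [eqP_iff, ← permOf_eq_permOf_iff (ok_iff.1 hP).1 (ok_iff.1 hQ).1, ← coe_el hP, ← coe_el hQ]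
  exact Subtype.ext_iff

theorem el_append {gl : List ℕ} (h : ∀ P ∈ gl, ok P = true) (u v : List ℕ) :
    el (prodW gl (u ++ v)) = el (prodW gl u) * el (prodW gl v) := by
  rw [el_prodW h, el_prodW h, el_prodW h, List.map_append, List.prod_append]

/-- the word model of `M24` -/
noncomputable def ev24 {gl : List ℕ} (h : ∀ P ∈ gl, ok P = true) : Ev M24 (eqG gl) where
  E w := el (prodW gl w)
  nil := el_idP
  app := el_append h
  eq_of u v huv := (el_eq_iff (ok_prodW h u) (ok_prodW h v)).2 huv
  ne_of u v huv he := by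
    have h1 : eqG gl u v = true := (el_eq_iff (ok_prodW h u) (ok_prodW h v)).1 he
    rw [huv] at h1
    exact absurd h1 (by decide)

/-- the packed permutation fixes the two points -/
def fx (P : ℕ) : Bool := ok P && (Nat.beq (papp P 23) 23 && Nat.beq (papp P 0) 0)

theorem mem_M22 {P : ℕ} (h : fx P = true) : (el P : Equiv.Perm GolayPt) ∈ Spor.M22 := by
  unfold fx at h
  rw [Bool.and_eq_true, Bool.and_eq_true] at h
  refine ⟨⟨(el P).2, ?_⟩, ?_⟩
  · show (el P : Equiv.Perm GolayPt) none = none
    have h1 := el_smul_pt h.1 none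
    rw [show idx none = 23 from rfl, Nat.eq_of_beq_eq_true h.2.1] at h1
    exact h1
  · show (el P : Equiv.Perm GolayPt) (some 0) = some 0
    have h1 := el_smul_pt h.1 (some 0)
    rw [show idx (some 0) = 0 from rfl, Nat.eq_of_beq_eq_true h.2.2] at h1
    exact h1

theorem ok_of_fx {P : ℕ} (h : fx P = true) : ok P = true := by
  unfold fx at h
  rw [Bool.and_eq_true] at h
  exact h.1

theorem mem_M22_prodW {gl : List ℕ} (h : ∀ P ∈ gl, fx P = true) (w : List ℕ) :
    (el (prodW gl w) : Equiv.Perm GolayPt) ∈ Spor.M22 := by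
  have h2 : (el (prodW gl w) : M24) ∈ (Spor.M22).subgroupOf M24 := by
    apply el_prodW_mem fun P hP => ok_of_fx (h P hP)
    intro i _
    rw [Subgroup.mem_subgroupOf]
    by_cases hi : i < gl.length
    · rw [List.getD_eq_getElem _ _ hi]
      exact mem_M22 (h _ (List.getElem_mem hi))
    · rw [List.getD_eq_default _ _ (by omega), el_idP]
      exact one_mem _
  exact Subgroup.mem_subgroupOf.1 h2

/-- the word model of `M22` -/
noncomputable def ev22 {gl : List ℕ} (h : ∀ P ∈ gl, fx P = true) : Ev Spor.M22 (eqG gl) where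
  E w := ⟨el (prodW gl w), mem_M22_prodW h w⟩
  nil := Subtype.ext (by
    show ((el (prodW gl []) : M24) : Equiv.Perm GolayPt) = 1
    rw [show prodW gl [] = idP from rfl, el_idP]
    rfl)
  app u v := Subtype.ext (by
    show ((el (prodW gl (u ++ v)) : M24) : Equiv.Perm GolayPt) = _
    rw [el_append fun P hP => ok_of_fx (h P hP)]
    rfl)
  eq_of u v huv := Subtype.ext (congrArg (fun x : M24 => (x : Equiv.Perm GolayPt))
    ((ev24 fun P hP => ok_of_fx (h P hP)).eq_of u v huv))
  ne_of u v huv he := (ev24 fun P hP => ok_of_fx (h P hP)).ne_of u v huv (Subtype.ext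
    (congrArg (fun x : Spor.M22 => (x : Equiv.Perm GolayPt)) he))

end Cfsg.Agent.H2.GolayEv
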