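import Cfsg.Agent.H2.LfRow

/-!
# Subgroups lying in at most one maximal 2-local subgroup (helper2)

* `Uniq X` : any two maximal 2-local subgroups containing `X` are equal;
* `Uniq.of_le` : all 2-local subgroups containing `X` lie in the 2-local subgroup `N`;
* `UniqT G`, `UniqC G` : `Uniq T`, `Uniq C_G(Ω₁(Z(T)))` for all Sylow 2-subgroups `T`; `.congr`, `.of_one`;
* `UniqT.of_coatom`, `UniqT.of_elementary`, `UniqT.of_central`, `UniqT.of_quasi`.
-/

set_option autoImplicit false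

namespace Cfsg.Agent.H2

open Subgroup Cfsg Cfsg.Agent.Lib.Cores
open Cfsg.Agent.QTUniq.Local Cfsg.Agent.H7.Faithful

universe u v

/-- two maximal 2-local subgroups containing `X` are equal -/
def Uniq {G : Type*} [Group G] (X : Subgroup G) : Prop :=
  ∀ M₁ ∈ maxTwoLocalsContaining X, ∀ M₂ ∈ maxTwoLocalsContaining X, M₁ = M₂

variable {G : Type u} [Group G] {K : Type v} [Group K]

theorem Uniq.of_le {X N : Subgroup G} (hN : IsTwoLocal N) (h : ∀ M, IsTwoLocal M → X ≤ M → M ≤ N) : Uniq X := by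
  intro M₁ h1 M₂ h2
  rw [← h1.1.2 N hN (h M₁ h1.1.1 h1.2), ← h2.1.2 N hN (h M₂ h2.1.1 h2.2)]

theorem Uniq.mono {X Y : Subgroup G} (h : Uniq X) (hXY : X ≤ Y) : Uniq Y :=
  fun M₁ h1 M₂ h2 => h M₁ ⟨h1.1, hXY.trans h1.2⟩ M₂ ⟨h2.1, hXY.trans h2.2⟩

theorem isTwoLocal_map (e : G ≃* K) {M : Subgroup G} (h : IsTwoLocal M) : IsTwoLocal (M.map e.toMonoidHom) := by
  obtain ⟨Q, h1, h2, rfl⟩ := h
  refine ⟨Q.map e.toMonoidHom, h1.map _, fun h => h2 ((Subgroup.map_eq_bot_iff_of_injective _ e.injective).1 h), ?_⟩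
  ext x
  constructor
  · rintro ⟨y, hy, rfl⟩
    rw [mem_normalizer_iff]
    intro z
    obtain ⟨z, rfl⟩ := e.surjective z
    have h3 : ∀ w : G, e w ∈ Q.map e.toMonoidHom ↔ w ∈ Q := fun w =>
      ⟨fun ⟨w', hw', he⟩ => e.injective he ▸ hw', fun hw => ⟨w, hw, rfl⟩⟩
    show e z ∈ Q.map e.toMonoidHom ↔ e y * e z * (e y)⁻¹ ∈ Q.map e.toMonoidHom
    rw [← map_mul, ← map_inv, ← map_mul, h3, h3]
    exact mem_normalizer_iff.1 hy z
  · intro hx
    obtain ⟨x, rfl⟩ := e.surjective x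
    refine ⟨x, ?_, rfl⟩
    show x ∈ normalizer (Q : Set G)
    rw [mem_normalizer_iff] at hx ⊢
    intro z
    have h3 : ∀ w : G, e w ∈ Q.map e.toMonoidHom ↔ w ∈ Q := fun w =>
      ⟨fun ⟨w', hw', he⟩ => e.injective he ▸ hw', fun hw => ⟨w, hw, rfl⟩⟩
    have h4 := hx (e z)
    rw [← map_inv, ← map_mul, ← map_mul] at h4
    rwa [h3, h3] at h4

theorem map_map_symm (e : G ≃* K) (M : Subgroup K) : (M.map e.symm.toMonoidHom).map e.toMonoidHom = M := by
  rw [Subgroup.map_map]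
  have : e.toMonoidHom.comp e.symm.toMonoidHom = MonoidHom.id K := by
    ext x; exact e.apply_symm_apply x
  rw [this, Subgroup.map_id]

theorem symm_map_map (e : G ≃* K) (M : Subgroup G) : (M.map e.toMonoidHom).map e.symm.toMonoidHom = M := by
  rw [Subgroup.map_map]
  have : e.symm.toMonoidHom.comp e.toMonoidHom = MonoidHom.id G := by
    ext x; exact e.symm_apply_apply x
  rw [this, Subgroup.map_id]

theorem max_map (e : G ≃* K) {X M : Subgroup G} (h : M ∈ maxTwoLocalsContaining X) :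
    M.map e.toMonoidHom ∈ maxTwoLocalsContaining (X.map e.toMonoidHom) := by
  obtain ⟨⟨h1, h2⟩, h3⟩ := h
  refine ⟨⟨isTwoLocal_map e h1, fun N hN hMN => ?_⟩, Subgroup.map_mono h3⟩
  have h4 := isTwoLocal_map e.symm hN
  have h5 := h2 _ h4 (by
    have := Subgroup.map_mono (f := e.symm.toMonoidHom) hMN
    rwa [symm_map_map] at this)
  rw [← h5, map_map_symm]

theorem Uniq.map (e : G ≃* K) {X : Subgroup G} (h : Uniq X) : Uniq (X.map e.toMonoidHom) := by
  intro M₁ h1 M₂ h2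
  have h3 := max_map e.symm h1
  have h4 := max_map e.symm h2
  rw [symm_map_map] at h3 h4
  have h5 := h _ h3 _ h4
  rw [← map_map_symm e M₁, h5, map_map_symm]

/-- every Sylow 2-subgroup lies in at most one maximal 2-local subgroup -/
def UniqT (G : Type*) [Group G] : Prop := ∀ T : Sylow 2 G, Uniq (T : Subgroup G)

/-- `C_G(Ω₁(Z(T)))` lies in at most one maximal 2-local subgroup -/
def UniqC (G : Type*) [Group G] : Prop := ∀ T : Sylow 2 G, Uniq (centralizer (omZ (T : Subgroup G) : Set G))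

theorem map_centZ (e : G ≃* K) (T : Subgroup G) :
    (centralizer (omZ T : Set G)).map e.toMonoidHom = centralizer (omZ (T.map e.toMonoidHom) : Set K) := by
  rw [H4.LfTrans.map_centralizer, map_omZ']
where
  map_omZ' : (omZ T).map e.toMonoidHom = omZ (T.map e.toMonoidHom) := by
    rw [omZ, omZ, H4.LfTrans.map_omegaOne, Subgroup.map_inf_eq _ _ _ e.injective, H4.LfTrans.map_centralizer]

theorem UniqT.of_one [Finite G] (T₀ : Sylow 2 G) (h : Uniq (T₀ : Subgroup G)) : UniqT G := by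
  intro T
  obtain ⟨g, hg⟩ := H4.LfTrans.exists_conj T₀ T
  rw [hg]
  exact h.map (MulAut.conj g)

theorem UniqC.of_one [Finite G] (T₀ : Sylow 2 G) (h : Uniq (centralizer (omZ (T₀ : Subgroup G) : Set G))) :
    UniqC G := by
  intro T
  obtain ⟨g, hg⟩ := H4.LfTrans.exists_conj T₀ T
  rw [hg, ← map_centZ]
  exact h.map (MulAut.conj g)

theorem UniqT.congr [Finite G] (e : G ≃* K) (h : UniqT K) : UniqT G := by
  intro T
  have h1 := (h (H4.LfTrans.mapSylow e T)).map e.symm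
  rw [H4.LfTrans.coe_mapSylow] at h1
  have h2 := symm_map_map e (T : Subgroup G)
  exact h2 ▸ h1

theorem UniqC.congr [Finite G] (e : G ≃* K) (h : UniqC K) : UniqC G := by
  intro T
  have h1 := (h (H4.LfTrans.mapSylow e T)).map e.symm
  rw [map_centZ, H4.LfTrans.coe_mapSylow] at h1
  have h2 := symm_map_map e (T : Subgroup G)
  exact h2 ▸ h1

/-! ### criteria -/

/-- `R ≤ T` if `T` normalizes the 2-group `R` -/
theorem le_sylow [Finite G] (T : Sylow 2 G) {R : Subgroup G} (hR : IsPGroup 2 R)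
    (hT : (T : Subgroup G) ≤ normalizer (R : Set G)) : R ≤ (T : Subgroup G) := by
  have h2 : Fact (Nat.Prime 2) := ⟨Nat.prime_two⟩
  have h3 : IsPGroup 2 (R ⊔ (T : Subgroup G) : Subgroup G) := hR.to_sup_of_normal_left' T.2 hT
  have h4 : (R ⊔ (T : Subgroup G) : Subgroup G) = (T : Subgroup G) := T.3 h3 le_sup_right
  rw [← h4]
  exact le_sup_left

/-- `N_G(z)` for an involution `z` is 2-local -/
theorem isTwoLocal_centralizer [Finite G] {z : G} (hz : z * z = 1) (hz1 : z ≠ 1) :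
    IsTwoLocal (centralizer ({z} : Set G)) := by
  refine ⟨zpowers z, ?_, fun h => hz1 (Subgroup.zpowers_eq_bot.1 h), ?_⟩
  · rintro ⟨_, ⟨m, rfl⟩⟩
    refine ⟨1, Subtype.ext ?_⟩
    show (z ^ m) ^ 2 ^ 1 = 1
    rw [pow_one, ← zpow_natCast, ← zpow_mul, mul_comm, zpow_mul]
    norm_cast
    rw [pow_two, hz, one_zpow]
  · have hmem : ∀ x, x ∈ zpowers z ↔ x = 1 ∨ x = z := by
      intro x
      constructor
      · rintro ⟨m, rfl⟩
        rcases Int.even_or_odd' m with ⟨k, rfl | rfl⟩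
        · left
          show z ^ (2 * k) = 1
          rw [zpow_mul]; norm_cast; rw [pow_two, hz, one_zpow]
        · right
          show z ^ (2 * k + 1) = z
          rw [zpow_add, zpow_mul, zpow_one]; norm_cast; rw [pow_two, hz, one_zpow, one_mul]
      · rintro (rfl | rfl)
        · exact one_mem _
        · exact mem_zpowers _
    ext g
    rw [mem_centralizer_singleton_iff, mem_normalizer_iff]
    constructor
    · intro h x
      show x ∈ zpowers z ↔ g * x * g⁻¹ ∈ zpowers z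
      rw [hmem, hmem, conj_eq_one_iff]
      constructor
      · rintro (h1 | rfl)
        · exact Or.inl h1
        · right
          rw [h]; group
      · rintro (h1 | h1)
        · exact Or.inl h1
        · right
          have : x = g⁻¹ * (g * x * g⁻¹) * g := by group
          rw [this, h1, mul_assoc, ← h, inv_mul_cancel_left]
    · intro h
      have h1 := (h z).1 (mem_zpowers z)
      have h2 : g * z * g⁻¹ = 1 ∨ g * z * g⁻¹ = z := (hmem _).1 h1
      rcases h2 with h2 | h2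
      · exact absurd (conj_eq_one_iff.1 h2) hz1
      · calc g * z = (g * z * g⁻¹) * g := by group
          _ = z * g := by rw [h2]

/-- a Sylow 2-subgroup which is a maximal subgroup -/
theorem UniqT.of_coatom [Finite G] (hO : pCore 2 G = ⊥) (T : Sylow 2 G) (hT : IsCoatom (T : Subgroup G)) :
    UniqT G := by
  refine UniqT.of_one T ?_
  have key : ∀ M, IsTwoLocal M → (T : Subgroup G) ≤ M → M = (T : Subgroup G) := by
    rintro M ⟨R, hR, hR1, rfl⟩ hTM
    by_contra hne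
    have h1 : normalizer (R : Set G) = ⊤ := hT.2 _ (lt_of_le_of_ne hTM (Ne.symm hne))
    apply hR1
    rw [eq_bot_iff, ← hO]
    refine le_pCore (normalizer_eq_top_iff.1 h1) hR
  intro M₁ h1 M₂ h2
  rw [key M₁ h1.1.1 h1.2, key M₂ h2.1.1 h2.2]

/-- a nontrivial 2-group has a central involution -/
theorem exists_central [Finite G] {R : Subgroup G} (hR : IsPGroup 2 ↥R) (hR1 : R ≠ ⊥) :
    ∃ u ∈ R, u * u = 1 ∧ u ≠ 1 ∧ ∀ r ∈ R, r * u = u * r := by
  have h2 : Fact (Nat.Prime 2) := ⟨Nat.prime_two⟩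
  have hn : Nontrivial ↥R := (Subgroup.nontrivial_iff_ne_bot R).2 hR1
  have hc := hR.center_nontrivial
  have hp : IsPGroup 2 ↥(center ↥R) := hR.to_subgroup _
  obtain ⟨n, hn0, hn1⟩ := hp.nontrivial_iff_card.1 hc
  obtain ⟨x, hx⟩ := exists_prime_orderOf_dvd_card' (G := ↥(center ↥R)) 2 (by
    rw [hn1]; exact dvd_pow_self 2 hn0.ne')
  have h1 : x * x = 1 := by rw [← pow_two, ← hx]; exact pow_orderOf_eq_one x
  refine ⟨((x : ↥R) : G), (x : ↥R).2, ?_, ?_, fun r hr => ?_⟩
  · exact congrArg (fun w : center ↥R => ((w : ↥R) : G)) h1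
  · intro h
    have h3 : x = 1 := Subtype.ext (Subtype.ext h)
    rw [h3, orderOf_one] at hx
    norm_num at hx
  · exact congrArg Subtype.val (mem_center_iff.1 x.2 ⟨r, hr⟩)

/-- for each involution `z ∈ T`: `T ≤ C(z) ≤ N(T)` -/
theorem UniqT.of_central [Finite G] (h2 : 2 ∣ Nat.card G) (T : Sylow 2 G)
    (h : ∀ z ∈ (T : Subgroup G), z * z = 1 → z ≠ 1 → (∀ t ∈ (T : Subgroup G), t * z = z * t) ∧
      centralizer ({z} : Set G) ≤ normalizer ((T : Subgroup G) : Set G)) : UniqT G := by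
  have hf : Fact (Nat.Prime 2) := ⟨Nat.prime_two⟩
  have hT1 : (T : Subgroup G) ≠ ⊥ := Sylow.ne_bot_of_dvd_card T h2
  refine UniqT.of_one T (Uniq.of_le ⟨(T : Subgroup G), T.2, hT1, rfl⟩ ?_)
  rintro M ⟨R, hR, hR1, rfl⟩ hTM m hm
  have hRT := le_sylow T hR hTM
  obtain ⟨r, hr, hrr, hr1, hrc⟩ := exists_central hR hR1
  -- `m r m⁻¹ ∈ R`
  have h1 : m * r * m⁻¹ ∈ R := (mem_normalizer_iff.1 hm r).1 hr
  obtain ⟨h3, h4⟩ := h _ (hRT h1) (by
    rw [show m * r * m⁻¹ * (m * r * m⁻¹) = m * (r * r) * m⁻¹ by group, hrr]; group) (fun h5 => hr1 (conj_eq_one_iff.1 h5))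
  obtain ⟨h5, -⟩ := h r (hRT hr) hrr hr1
  -- `m T m⁻¹ ≤ C(m r m⁻¹) ≤ N(T)`
  have h6 : (T : Subgroup G).map (MulAut.conj m).toMonoidHom ≤ normalizer ((T : Subgroup G) : Set G) := by
    rintro _ ⟨t, ht, rfl⟩
    apply h4
    rw [mem_centralizer_singleton_iff]
    show m * t * m⁻¹ * (m * r * m⁻¹) = m * r * m⁻¹ * (m * t * m⁻¹)
    calc m * t * m⁻¹ * (m * r * m⁻¹) = m * (t * r) * m⁻¹ := by group
      _ = m * (r * t) * m⁻¹ := by rw [h5 t ht]
      _ = _ := by group
  have h7 : (T : Subgroup G).map (MulAut.conj m).toMonoidHom ≤ (T : Subgroup G) := by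
    have h8 : IsPGroup 2 ((T : Subgroup G).map (MulAut.conj m).toMonoidHom) := T.2.map _
    have h9 : IsPGroup 2 (((T : Subgroup G).map (MulAut.conj m).toMonoidHom) ⊔ (T : Subgroup G) : Subgroup G) :=
      h8.to_sup_of_normal_right' T.2 h6
    have h10 := T.3 h9 le_sup_right
    exact le_sup_left.trans h10.le
  have hfin : Finite ((T : Subgroup G) : Set G) := inferInstance
  exact mem_normalizer_fintype fun t ht => h7 ⟨t, ht, rfl⟩

/-- the centralizers of involutions are elementary abelian 2-groups -/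
theorem UniqT.of_elementary [Finite G] (h2 : 2 ∣ Nat.card G)
    (hc : ∀ z y : G, z * z = 1 → z ≠ 1 → z * y = y * z → y * y = 1) : UniqT G := by
  have hf : Fact (Nat.Prime 2) := ⟨Nat.prime_two⟩
  obtain ⟨T⟩ : Nonempty (Sylow 2 G) := inferInstance
  have hT1 : (T : Subgroup G) ≠ ⊥ := Sylow.ne_bot_of_dvd_card T h2
  obtain ⟨u, hu, huu, hu1, huc⟩ := exists_central T.2 hT1
  have hsq : ∀ t ∈ (T : Subgroup G), t * t = 1 := fun t ht => hc u t huu hu1 (huc t ht).symm
  have hcomm : ∀ s ∈ (T : Subgroup G), ∀ t ∈ (T : Subgroup G), s * t = t * s := by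
    intro s hs t ht
    have h1 := hsq (s * t) (mul_mem hs ht)
    calc s * t = s * (s * t * (s * t)) * t := by rw [h1]; group
      _ = (s * s) * (t * s) * (t * t) := by group
      _ = t * s := by rw [hsq s hs, hsq t ht]; group
  refine UniqT.of_central h2 T fun z hz hzz hz1 => ⟨fun t ht => hcomm t ht z hz, ?_⟩
  have h3 : centralizer ({z} : Set G) ≤ (T : Subgroup G) := by
    have h4 : IsPGroup 2 (centralizer ({z} : Set G)) := by
      rintro ⟨y, hy⟩
      refine ⟨1, Subtype.ext ?_⟩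
      show y ^ 2 ^ 1 = 1
      rw [pow_one, pow_two]
      exact hc z y hzz hz1 (mem_centralizer_singleton_iff.1 hy).symm
    have h5 : (T : Subgroup G) ≤ centralizer ({z} : Set G) := fun t ht =>
      mem_centralizer_singleton_iff.2 (hcomm t ht z hz)
    exact (T.3 h4 h5).le
  exact h3.trans le_normalizer

/-- `T = ⟨x, y⟩` quasi-dihedral of order 16 -/
theorem UniqT.of_quasi [Finite G] {x y : G} (hx : x ^ 8 = 1) (hx4 : x ^ 4 ≠ 1) (hy : y * y = 1) (hy1 : y ∉ zpowers x)
    (hyx : y * x = x ^ 3 * y) (hG : ¬ 32 ∣ Nat.card G) : UniqT G := by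
  have hf : Fact (Nat.Prime 2) := ⟨Nat.prime_two⟩
  -- the subgroup of order 16
  have hyp : ∀ n : ℕ, y * x ^ n = x ^ (3 * n) * y := by
    intro n
    induction n with
    | zero => simp
    | succ n ih => rw [pow_succ, ← mul_assoc, ih, mul_assoc, hyx, ← mul_assoc, ← pow_add, Nat.mul_succ]
  have hord : orderOf x = 8 := orderOf_eq_prime_pow (p := 2) (n := 2) (by norm_num; exact hx4) (by norm_num; exact hx)
  let f : Fin 8 × Fin 2 → G := fun p => x ^ (p.1 : ℕ) * y ^ (p.2 : ℕ)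
  have hmod : ∀ n : ℕ, x ^ n = x ^ (n % 8) := fun n => by rw [← hord]; exact (pow_mod_orderOf x n).symm
  have hmul : ∀ (a b c d : ℕ), ∃ e g : ℕ, x ^ a * y ^ b * (x ^ c * y ^ d) = x ^ e * y ^ g := by
    intro a b c d
    have hb : ∀ b : ℕ, ∃ k, y ^ b * x ^ c = x ^ k * y ^ b := by
      intro b
      induction b with
      | zero => exact ⟨c, by simp⟩
      | succ b ih =>
        obtain ⟨k, hk⟩ := ih
        exact ⟨3 * k, by rw [pow_succ', mul_assoc, hk, ← mul_assoc, hyp, mul_assoc]⟩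
    obtain ⟨k, hk⟩ := hb b
    refine ⟨a + k, b + d, ?_⟩
    calc x ^ a * y ^ b * (x ^ c * y ^ d) = x ^ a * (y ^ b * x ^ c) * y ^ d := by group
      _ = _ := by rw [hk, pow_add, pow_add]; group
  have hy2 : ∀ n : ℕ, y ^ n = y ^ (n % 2) := by
    intro n
    conv_lhs => rw [← Nat.div_add_mod n 2]
    rw [pow_add, pow_mul, pow_two, hy, one_pow, one_mul]
  let S : Subgroup G :=
    { carrier := {g | ∃ a b : ℕ, g = x ^ a * y ^ b}
      one_mem' := ⟨0, 0, by simp⟩
      mul_mem' := by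
        rintro _ _ ⟨a, b, rfl⟩ ⟨c, d, rfl⟩
        obtain ⟨e, g, h⟩ := hmul a b c d
        exact ⟨e, g, h⟩
      inv_mem' := by
        rintro _ ⟨a, b, rfl⟩
        have h1 : (x ^ a * y ^ b)⁻¹ = x ^ 0 * y ^ b * (x ^ (7 * a) * y ^ 0) := by
          rw [mul_inv_rev, pow_zero, pow_zero, one_mul, mul_one]
          congr 1
          · rw [inv_eq_iff_mul_eq_one, ← pow_add, ← two_mul, pow_mul, pow_two, hy, one_pow]
          · rw [inv_eq_iff_mul_eq_one, ← pow_add, show a + 7 * a = 8 * a by ring, pow_mul, hx, one_pow]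
        rw [h1]
        obtain ⟨e, g, h⟩ := hmul 0 b (7 * a) 0
        exact ⟨e, g, h⟩ }
  have hS : ∀ g : G, g ∈ S ↔ ∃ a b : ℕ, g = x ^ a * y ^ b := fun g => Iff.rfl
  have hxS : x ∈ S := ⟨1, 0, by simp⟩
  have hyS : y ∈ S := ⟨0, 1, by simp⟩
  have hcard : Nat.card S = 16 := by
    let F : Fin 8 × Fin 2 → S := fun p => ⟨f p, p.1, p.2, rfl⟩
    have hsurj : Function.Surjective F := by
      rintro ⟨g, a, b, rfl⟩
      refine ⟨(⟨a % 8, Nat.mod_lt _ (by norm_num)⟩, ⟨b % 2, Nat.mod_lt _ (by norm_num)⟩), Subtype.ext ?_⟩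
      show x ^ (a % 8) * y ^ (b % 2) = x ^ a * y ^ b
      rw [← hmod, ← hy2]
    have hinj : Function.Injective F := by
      rintro ⟨a, b⟩ ⟨c, d⟩ h
      have h1 : x ^ (a : ℕ) * y ^ (b : ℕ) = x ^ (c : ℕ) * y ^ (d : ℕ) := congrArg Subtype.val h
      have hbd : b = d := by
        by_contra hne
        apply hy1
        have h3 : ∀ s t : ℕ, x ^ s * y = x ^ t → y ∈ zpowers x := by
          intro s t h
          have : y = (x ^ s)⁻¹ * x ^ t := by rw [← h]; group
          rw [this]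
          exact mul_mem (inv_mem (pow_mem (mem_zpowers x) s)) (pow_mem (mem_zpowers x) t)
        fin_cases b <;> fin_cases d <;> simp only [Fin.zero_eta, Fin.mk_one, pow_zero,
          pow_one, mul_one, not_true_eq_false] at h1 hne
        · exact h3 _ _ h1.symm
        · exact h3 _ _ h1
      subst hbd
      have h2 : x ^ (a : ℕ) = x ^ (c : ℕ) := mul_right_cancel h1
      rw [pow_inj_mod, hord, Nat.mod_eq_of_lt a.2, Nat.mod_eq_of_lt c.2] at h2
      rw [Fin.ext h2]
    have h1 := Nat.card_congr (Equiv.ofBijective F ⟨hinj, hsurj⟩)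
    rw [← h1]
    simp
  have hSp : IsPGroup 2 S := IsPGroup.of_card (n := 4) (by rw [hcard]; norm_num)
  have hSi : ¬ 2 ∣ S.index := by
    intro h
    apply hG
    rw [← S.card_mul_index, hcard]
    exact Nat.mul_dvd_mul_left 16 h
  set T : Sylow 2 G := hSp.toSylow hSi with hT
  have hTS : (T : Subgroup G) = S := rfl
  refine UniqT.of_one T ?_
  rw [hTS]
  have hz : x ^ 4 * x ^ 4 = 1 := by rw [← pow_add]; exact hx
  have hzS : ∀ g ∈ S, g * x ^ 4 = x ^ 4 * g := by
    rintro _ ⟨a, b, rfl⟩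
    have h1 : ∀ b : ℕ, y ^ b * x ^ 4 = x ^ 4 * y ^ b := by
      intro b
      induction b with
      | zero => simp
      | succ b ih =>
        rw [pow_succ', mul_assoc, ih, ← mul_assoc, hyp, mul_assoc, hmod (3 * 4)]
    rw [mul_assoc, h1, ← mul_assoc, ← pow_add, add_comm, pow_add, mul_assoc]
  refine Uniq.of_le (isTwoLocal_centralizer hz hx4) ?_
  rintro M ⟨R, hR, hR1, rfl⟩ hTM m hm
  have hRS : R ≤ S := le_sylow T hR hTM
  -- a central involution of `R` is `z`
  have key : ∀ r ∈ R, r * r = 1 → r ≠ 1 → (∀ s ∈ R, s * r = r * s) → r = x ^ 4 := by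
    intro r hr hrr hr1 hrc
    obtain ⟨a, b, rfl⟩ := hRS hr
    rw [hy2 b, hmod a] at hr hrr hr1 hrc ⊢
    have h8 : a % 8 < 8 := Nat.mod_lt _ (by norm_num)
    have h2 : b % 2 < 2 := Nat.mod_lt _ (by norm_num)
    generalize a % 8 = a at hr hrr hr1 hrc h8 ⊢
    generalize b % 2 = b at hr hrr hr1 hrc h2 ⊢
    have hb : b = 0 ∨ b = 1 := by omega
    rcases hb with rfl | rfl
    · rw [pow_zero, mul_one] at hrr hr1 ⊢
      rw [← pow_add] at hrr
      have h3 : 8 ∣ a + a := by rw [← hord]; exact orderOf_dvd_of_pow_eq_one hrr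
      have h4 : a = 0 ∨ a = 4 := by omega
      rcases h4 with rfl | rfl
      · exact absurd (pow_zero x) hr1
      · rfl
    · exfalso
      rw [pow_one] at hr hrr hr1 hrc
      -- `x r x⁻¹ = x⁻² r`
      have h3 : x * (x ^ a * y) * x⁻¹ ∈ R := (mem_normalizer_iff.1 (hTM hxS) _).1 hr
      have h4 : x * (x ^ a * y) * x⁻¹ * (x ^ a * y)⁻¹ ∈ R := mul_mem h3 (inv_mem hr)
      have hyi : y⁻¹ = y := inv_eq_of_mul_eq_one_left hy
      have hxi : x⁻¹ = x ^ 7 := by rw [inv_eq_iff_mul_eq_one, ← pow_succ']; exact hx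
      have h5 : x * (x ^ a * y) * x⁻¹ * (x ^ a * y)⁻¹ = x ^ 6 := by
        rw [mul_inv_rev, hyi, hxi]
        calc x * (x ^ a * y) * x ^ 7 * (y * (x ^ a)⁻¹) = x * x ^ a * (y * x ^ 7) * y * (x ^ a)⁻¹ := by group
          _ = x * x ^ a * x ^ 21 * (y * y) * (x ^ a)⁻¹ := by rw [hyp]; group
          _ = x ^ 22 := by rw [hy]; group
          _ = x ^ 6 := hmod 22
      rw [h5] at h4
      have h6 := hrc _ h4
      have h7 : x ^ a * y * x ^ 6 = x ^ (a + 18) * y := by
        rw [mul_assoc, hyp, ← mul_assoc, ← pow_add]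
      rw [h7, ← mul_assoc, ← pow_add] at h6
      have h8 := mul_right_cancel h6
      rw [pow_inj_mod, hord] at h8
      omega
  obtain ⟨r, hr, hrr, hr1, hrc⟩ := exists_central hR hR1
  have hrz := key r hr hrr hr1 hrc
  have h1 : m * r * m⁻¹ = x ^ 4 := by
    refine key _ ((mem_normalizer_iff.1 hm r).1 hr) ?_ (fun h5 => hr1 (conj_eq_one_iff.1 h5)) fun s hs => ?_
    · rw [show m * r * m⁻¹ * (m * r * m⁻¹) = m * (r * r) * m⁻¹ by group, hrr]; group
    · have h3 : m⁻¹ * s * m ∈ R := by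
        have := (mem_normalizer_iff.1 (inv_mem hm) s).1 hs
        simpa using this
      have h4 := hrc _ h3
      calc s * (m * r * m⁻¹) = m * ((m⁻¹ * s * m) * r) * m⁻¹ := by group
        _ = m * (r * (m⁻¹ * s * m)) * m⁻¹ := by rw [h4]
        _ = _ := by group
  rw [hrz] at h1
  rw [mem_centralizer_singleton_iff]
  calc m * x ^ 4 = (m * x ^ 4 * m⁻¹) * m := by group
    _ = x ^ 4 * m := by rw [h1]

end Cfsg.Agent.H2
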